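import Mathlib

/-!
Binary coset actions: the intersection of the conjugates through an element, a triangle obstruction,
and an orbit-counting obstruction.
-/

set_option autoImplicit false

namespace Cfsg.Agent.Lib.BinaryPSL

variable {G : Type*} [Group G]

/-- The action on the cosets of `H` has relational complexity at most two. -/
def Binary (H : Subgroup G) : Prop :=
  ∀ (n : ℕ) (I J : Fin n → G ⧸ H), 2 ≤ n →
    (∀ i j : Fin n, i ≠ j → ∃ g : G, g • I i = J i ∧ g • I j = J j) → ∃ g : G, ∀ i, g • I i = J i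

/-- The elements lying in every conjugate of `H` through `x`. -/
def Nx (H : Subgroup G) (x : G) : Subgroup G where
  carrier := {w | ∀ g : G, g⁻¹ * x * g ∈ H → g⁻¹ * w * g ∈ H}
  one_mem' g _ := by simp [H.one_mem]
  mul_mem' {a b} ha hb g hg := by
    have h := H.mul_mem (ha g hg) (hb g hg)
    rwa [show g⁻¹ * a * g * (g⁻¹ * b * g) = g⁻¹ * (a * b) * g by group] at h
  inv_mem' {a} ha g hg := by
    have h := H.inv_mem (ha g hg)
    rwa [show (g⁻¹ * a * g)⁻¹ = g⁻¹ * a⁻¹ * g by group] at h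

variable {H : Subgroup G}

theorem mem_Nx {x w : G} : w ∈ Nx H x ↔ ∀ g : G, g⁻¹ * x * g ∈ H → g⁻¹ * w * g ∈ H := Iff.rfl

theorem self_mem_Nx (x : G) : x ∈ Nx H x := fun _ h => h

theorem Nx_le {x : G} (hx : x ∈ H) : Nx H x ≤ H := fun w hw => by
  simpa using hw 1 (by simpa using hx)

theorem Nx_inv (x : G) : Nx H x⁻¹ = Nx H x := by
  ext w
  refine forall_congr' fun g => imp_congr ?_ Iff.rfl
  rw [show g⁻¹ * x⁻¹ * g = (g⁻¹ * x * g)⁻¹ by group, inv_mem_iff]

theorem Nx_mono {x w : G} (hw : w ∈ Nx H x) : Nx H w ≤ Nx H x := fun _ hv g hg => hv g (hw g hg)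

theorem mem_Nx_conj (c x w : G) : w ∈ Nx H (c * x * c⁻¹) ↔ c⁻¹ * w * c ∈ Nx H x := by
  constructor
  · intro h g hg
    have := h (c * g) (by rwa [show (c * g)⁻¹ * (c * x * c⁻¹) * (c * g) = g⁻¹ * x * g by group])
    rwa [show g⁻¹ * (c⁻¹ * w * c) * g = (c * g)⁻¹ * w * (c * g) by group]
  · intro h g hg
    have := h (c⁻¹ * g) (by rwa [show (c⁻¹ * g)⁻¹ * x * (c⁻¹ * g) = g⁻¹ * (c * x * c⁻¹) * g by group])
    rwa [show (c⁻¹ * g)⁻¹ * (c⁻¹ * w * c) * (c⁻¹ * g) = g⁻¹ * w * g by group] at this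

/-- Elements fixing or inverting `x` normalise the intersection. -/
theorem conj_mem_Nx {x w τ : G} (hτ : τ * x * τ⁻¹ = x ∨ τ * x * τ⁻¹ = x⁻¹) (hw : w ∈ Nx H x) :
    τ * w * τ⁻¹ ∈ Nx H x := by
  have h : τ * w * τ⁻¹ ∈ Nx H (τ * x * τ⁻¹) := (mem_Nx_conj τ x _).mpr (by
    rwa [show τ⁻¹ * (τ * w * τ⁻¹) * τ = w by group])
  rcases hτ with e | e <;> rw [e] at h
  · exact h
  · rwa [Nx_inv] at h

theorem conj_mem_Nx' {x w τ : G} (hτ : τ * x = x * τ) (hw : w ∈ Nx H x) : τ * w * τ⁻¹ ∈ Nx H x :=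
  conj_mem_Nx (Or.inl (mul_inv_eq_iff_eq_mul.mpr hτ)) hw

/-- The obstruction from a triangle `x = y z`. -/
theorem not_binary_of_triangle [Finite G] {x y z : G} (hxyz : x = y * z)
    (hno : ∀ g, g ∈ Nx H x → g ∈ Nx H y → x⁻¹ * g ∈ Nx H z → False) : ¬ Binary H := by
  classical
  intro hb
  let T : Fin 3 → G := ![x, y, z]
  let ι := {p : (Fin 3 × Fin 2) × G // p.2⁻¹ * T p.1.1 * p.2 ∈ H}
  haveI : Fintype ι := Fintype.ofFinite ι
  obtain ⟨e⟩ : Nonempty (ι ≃ Fin (Fintype.card ι)) := ⟨Fintype.equivFin ι⟩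
  by_cases h2 : 2 ≤ Fintype.card ι
  · let I : ι → G ⧸ H := fun p => (p.1.2 : G ⧸ H)
    let J : ι → G ⧸ H := fun p => if p.1.1.1 = 2 then ((x * p.1.2 : G) : G ⧸ H) else (p.1.2 : G ⧸ H)
    have hfix : ∀ t g : G, g⁻¹ * t * g ∈ H → t • (g : G ⧸ H) = (g : G ⧸ H) := fun t g h => by
      rw [MulAction.Quotient.smul_coe, smul_eq_mul, QuotientGroup.eq]
      have := H.inv_mem h
      rwa [show (g⁻¹ * t * g)⁻¹ = (t * g)⁻¹ * g by group] at this
    have key : ∀ p q : ι, ∃ g : G, g • I p = J p ∧ g • I q = J q := by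
      rintro ⟨⟨⟨i, a⟩, g₁⟩, hp⟩ ⟨⟨⟨j, b⟩, g₂⟩, hq⟩
      have hxz : x • (g₁ : G ⧸ H) = ((x * g₁ : G) : G ⧸ H) ∧ x • (g₂ : G ⧸ H) = ((x * g₂ : G) : G ⧸ H) :=
        ⟨rfl, rfl⟩
      have hyz : ∀ g : G, g⁻¹ * z * g ∈ H → y • (g : G ⧸ H) = ((x * g : G) : G ⧸ H) := fun g h => by
        conv_lhs => rw [← hfix z g h]
        rw [← mul_smul, ← hxyz]
        rfl
      fin_cases i <;> fin_cases j <;>
        simp only [I, J, T, Fin.zero_eta, Fin.mk_one, Fin.reduceFinMk, Fin.isValue, Fin.reduceEq, if_false, if_true,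
          Matrix.cons_val_zero, Matrix.cons_val_one, Matrix.cons_val_two, Matrix.cons_val] at hp hq ⊢
      · exact ⟨1, one_smul _ _, one_smul _ _⟩
      · exact ⟨1, one_smul _ _, one_smul _ _⟩
      · exact ⟨x, hfix x g₁ hp, rfl⟩
      · exact ⟨1, one_smul _ _, one_smul _ _⟩
      · exact ⟨1, one_smul _ _, one_smul _ _⟩
      · exact ⟨y, hfix y g₁ hp, hyz g₂ hq⟩
      · exact ⟨x, rfl, hfix x g₂ hq⟩
      · exact ⟨y, hyz g₁ hp, hfix y g₂ hq⟩
      · exact ⟨x, rfl, rfl⟩
    obtain ⟨g, hg⟩ := hb _ (I ∘ e.symm) (J ∘ e.symm) h2 (fun i j _ => key _ _)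
    have hg' : ∀ p : ι, g • I p = J p := fun p => by simpa using hg (e p)
    refine hno g (fun a ha => ?_) (fun a ha => ?_) (fun a ha => ?_)
    · have := hg' ⟨((0, 0), a), ha⟩
      simp only [I, J, Fin.reduceEq, if_false] at this
      rw [MulAction.Quotient.smul_coe, smul_eq_mul, eq_comm, QuotientGroup.eq] at this
      simpa [mul_assoc] using this
    · have := hg' ⟨((1, 0), a), ha⟩
      simp only [I, J, Fin.reduceEq, if_false] at this
      rw [MulAction.Quotient.smul_coe, smul_eq_mul, eq_comm, QuotientGroup.eq] at this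
      simpa [mul_assoc] using this
    · have := hg' ⟨((2, 0), a), ha⟩
      simp only [I, J, if_true] at this
      rw [MulAction.Quotient.smul_coe, smul_eq_mul, eq_comm, QuotientGroup.eq] at this
      rwa [show a⁻¹ * (x⁻¹ * g) * a = (x * a)⁻¹ * (g * a) by group]
  · have hemp : IsEmpty ι := by
      by_contra h
      rw [not_isEmpty_iff] at h
      obtain ⟨⟨⟨⟨i, a⟩, g⟩, hp⟩⟩ := h
      exact h2 (Fintype.one_lt_card_iff.mpr ⟨⟨((i, 0), g), hp⟩, ⟨((i, 1), g), hp⟩, fun e => by simpa using congrArg (fun p : ι => p.1.1.2) e⟩)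
    exact hno 1 (fun a ha => (hemp.false ⟨((0, 0), a), ha⟩).elim) (fun a ha => (hemp.false ⟨((1, 0), a), ha⟩).elim)
      (fun a ha => (hemp.false ⟨((2, 0), a), ha⟩).elim)

/-- Being binary only depends on the conjugacy class of `H`. -/
theorem binary_conj (c : G) (h : Binary H) : Binary (H.map (MulAut.conj c).toMonoidHom) := by
  set K := H.map (MulAut.conj c).toMonoidHom
  have hK : ∀ a : G, a ∈ K ↔ c⁻¹ * a * c ∈ H := fun a => by
    constructor
    · rintro ⟨w, hw, rfl⟩
      simpa [MulAut.conj_apply, mul_assoc] using hw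
    · intro ha
      exact ⟨_, ha, by simp [MulAut.conj_apply, mul_assoc]⟩
  let f : G ⧸ K → G ⧸ H := Quotient.lift (fun a => ((a * c : G) : G ⧸ H)) (fun a b hab => by
    replace hab : c⁻¹ * (a⁻¹ * b) * c ∈ H := (hK _).mp (QuotientGroup.leftRel_apply.mp hab)
    refine QuotientGroup.eq.mpr ?_
    rwa [show (a * c)⁻¹ * (b * c) = c⁻¹ * (a⁻¹ * b) * c by group])
  have hf : ∀ (g : G) (p : G ⧸ K), f (g • p) = g • f p := fun g p => by
    induction p using QuotientGroup.induction_on with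
    | _ a => exact congrArg QuotientGroup.mk (mul_assoc g a c)
  have hfi : Function.Injective f := fun p q => by
    induction p using QuotientGroup.induction_on with
    | _ a =>
      induction q using QuotientGroup.induction_on with
      | _ b =>
        intro hab
        refine QuotientGroup.eq.mpr ((hK _).mpr ?_)
        have := QuotientGroup.eq.mp hab
        rwa [show c⁻¹ * (a⁻¹ * b) * c = (a * c)⁻¹ * (b * c) by group]
  intro n I J hn hp
  obtain ⟨g, hg⟩ := h n (f ∘ I) (f ∘ J) hn (fun i j hij => by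
    obtain ⟨g, h1, h2⟩ := hp i j hij
    exact ⟨g, by simp only [Function.comp_apply]; rw [← hf, h1], by simp only [Function.comp_apply]; rw [← hf, h2]⟩)
  exact ⟨g, fun i => hfi (by rw [hf]; exact hg i)⟩

/-- Four points, the last of which is moved. -/
theorem not_binary_of_four {p₀ p₁ p₂ p₃ q₃ : G ⧸ H}
    (h0 : ∃ g : G, g • p₀ = p₀ ∧ g • p₃ = q₃) (h1 : ∃ g : G, g • p₁ = p₁ ∧ g • p₃ = q₃)
    (h2 : ∃ g : G, g • p₂ = p₂ ∧ g • p₃ = q₃)
    (hno : ∀ g : G, g • p₀ = p₀ → g • p₁ = p₁ → g • p₂ = p₂ → g • p₃ ≠ q₃) : ¬ Binary H := by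
  intro hb
  have h0' := h0.imp fun _ h => And.intro h.2 h.1
  have h1' := h1.imp fun _ h => And.intro h.2 h.1
  have h2' := h2.imp fun _ h => And.intro h.2 h.1
  obtain ⟨g, hg⟩ := hb 4 ![p₀, p₁, p₂, p₃] ![p₀, p₁, p₂, q₃] (by norm_num) (fun i j hij => by
    fin_cases i <;> fin_cases j <;> first
      | exact absurd rfl hij
      | exact ⟨1, one_smul _ _, one_smul _ _⟩
      | exact h0
      | exact h1
      | exact h2
      | exact h0'
      | exact h1'
      | exact h2')
  exact hno g (hg 0) (hg 1) (hg 2) (hg 3)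

theorem binary_bot : Binary (⊥ : Subgroup G) := by
  intro n I J hn hp
  haveI : Nonempty (Fin n) := ⟨⟨0, by omega⟩⟩
  obtain ⟨i0⟩ := ‹Nonempty (Fin n)›
  obtain ⟨j0, hj0⟩ : ∃ j : Fin n, j ≠ i0 := by
    haveI : Nontrivial (Fin n) := Fin.nontrivial_iff_two_le.mpr hn
    exact exists_ne i0
  obtain ⟨g, hg, -⟩ := hp i0 j0 hj0.symm
  refine ⟨g, fun i => ?_⟩
  rcases eq_or_ne i i0 with rfl | hi
  · exact hg
  obtain ⟨g', h1, h2⟩ := hp i0 i hi.symm
  induction hI : I i0 using QuotientGroup.induction_on with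
  | _ a =>
    have e : g'⁻¹ * g = 1 := by
      have h : g' • I i0 = g • I i0 := h1.trans hg.symm
      rw [hI, MulAction.Quotient.smul_coe, MulAction.Quotient.smul_coe, QuotientGroup.eq, Subgroup.mem_bot] at h
      simp only [smul_eq_mul] at h
      have h' : a⁻¹ * (g'⁻¹ * g) * a = 1 := by rw [← h]; group
      have := congrArg (fun t => a * t * a⁻¹) h'
      simpa [mul_assoc] using this
    rw [inv_mul_eq_one] at e
    rw [← e]; exact h2

/-- Counting ordered triples against orbitals: `F h` bounds the conjugators of `h` into `H`. -/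
theorem not_binary_of_count [Finite G] (b : H → ℕ) (R : ℕ)
    (hb : ∀ h : H, Nat.card {a : G // a⁻¹ * (h : G) * a ∈ H} ≤ b h)
    (hR : ∑ᶠ h : H, b h < (R + 2) * Nat.card H ^ 2)
    (hn : R ^ 3 * Nat.card G < H.index * (H.index - 1) * (H.index - 2)) : ¬ Binary H := by
  classical
  intro hbin
  haveI := Fintype.ofFinite G
  haveI := Fintype.ofFinite H
  haveI := Fintype.ofFinite (G ⧸ H)
  set P := G ⧸ H
  set o : P := ((1 : G) : P)
  -- the number of orbits of `H` on the cosets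
  have hburn := MulAction.sum_card_fixedBy_eq_card_orbits_mul_card_group H P
  have hfix : ∀ h : H, Fintype.card (MulAction.fixedBy P h) * Nat.card H =
      Nat.card {a : G // a⁻¹ * (h : G) * a ∈ H} := by
    intro h
    rw [← Nat.card_eq_fintype_card, ← Nat.card_prod]
    refine Nat.card_congr ((Equiv.ofBijective (fun (a : {a : G // a⁻¹ * (h : G) * a ∈ H}) =>
      ((⟨(a.1 : P), ?_⟩ : MulAction.fixedBy P h), (⟨((a.1 : P).out)⁻¹ * a.1, ?_⟩ : H))) ?_).symm)
    · show (h : G) • ((a.1 : G) : G ⧸ H) = ((a.1 : G) : G ⧸ H)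
      rw [MulAction.Quotient.smul_coe, smul_eq_mul, eq_comm, QuotientGroup.eq]
      simpa [mul_assoc] using a.2
    · exact QuotientGroup.eq.mp (QuotientGroup.out_eq' _)
    · constructor
      · rintro ⟨a, ha⟩ ⟨a', ha'⟩ e
        simp only [Prod.mk.injEq, Subtype.mk.injEq] at e
        rw [e.1] at e
        exact Subtype.ext (mul_left_cancel e.2)
      · rintro ⟨⟨p, hp⟩, k⟩
        have hk : ((p.out * (k : G) : G) : P) = p := by
          rw [QuotientGroup.mk_mul_of_mem _ k.2, QuotientGroup.out_eq']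
        refine ⟨⟨p.out * k, ?_⟩, ?_⟩
        · have h1 : (h : G) • p = p := hp
          rw [← hk, MulAction.Quotient.smul_coe, smul_eq_mul, eq_comm, QuotientGroup.eq] at h1
          simpa [mul_assoc] using h1
        · simp only [Prod.mk.injEq, Subtype.mk.injEq]
          exact ⟨hk, Subtype.ext (by simp only [hk]; group)⟩
  have horb : Nat.card (Quotient (MulAction.orbitRel H P)) ≤ R + 1 := by
    by_contra hlt
    push Not at hlt
    have h1 : (R + 2) * Nat.card H ^ 2 ≤ ∑ h : H, Fintype.card (MulAction.fixedBy P h) * Nat.card H := by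
      rw [← Finset.sum_mul, hburn, sq, ← mul_assoc, ← Nat.card_eq_fintype_card, ← Nat.card_eq_fintype_card]
      exact Nat.mul_le_mul_right _ (Nat.mul_le_mul_right _ hlt)
    have h2 : ∑ h : H, Fintype.card (MulAction.fixedBy P h) * Nat.card H ≤ ∑ h : H, b h :=
      Finset.sum_le_sum fun h _ => (hfix h).trans_le (hb h)
    rw [finsum_eq_sum_of_fintype] at hR
    omega
  -- orbits other than the base point
  set base : Quotient (MulAction.orbitRel H P) := Quotient.mk'' o
  let Q := {c : Quotient (MulAction.orbitRel H P) // c ≠ base}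
  have hQ : Nat.card Q ≤ R := by
    rw [Nat.card_eq_fintype_card, Fintype.card_subtype_compl, Fintype.card_subtype_eq, ← Nat.card_eq_fintype_card]
    omega
  -- the orbital of a pair of distinct points
  let τ : P → P → Quotient (MulAction.orbitRel H P) := fun p q => Quotient.mk'' (p.out⁻¹ • q)
  have hτne : ∀ p q : P, p ≠ q → τ p q ≠ base := fun p q hpq h => by
    obtain ⟨k, hk⟩ := Quotient.eq''.mp h
    have hk' : k • o = p.out⁻¹ • q := hk
    have hko : k • o = o := by
      show (k : G) • ((1 : G) : G ⧸ H) = ((1 : G) : G ⧸ H)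
      rw [MulAction.Quotient.smul_coe, smul_eq_mul, mul_one, eq_comm, QuotientGroup.eq]
      simp
    rw [hko, eq_inv_smul_iff, MulAction.Quotient.smul_coe, smul_eq_mul, mul_one, QuotientGroup.out_eq'] at hk'
    exact hpq hk'
  have hτeq : ∀ p q p' q' : P, τ p q = τ p' q' → ∃ g : G, g • p = p' ∧ g • q = q' := fun p q p' q' h => by
    obtain ⟨k, hk⟩ := Quotient.eq''.mp h
    have hk' : (k : G) • (p'.out⁻¹ • q') = p.out⁻¹ • q := hk
    refine ⟨p'.out * (k : G)⁻¹ * p.out⁻¹, ?_, ?_⟩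
    · calc (p'.out * (k : G)⁻¹ * p.out⁻¹) • p
          = (p'.out * (k : G)⁻¹ * p.out⁻¹) • ((p.out : G) : G ⧸ H) := by rw [QuotientGroup.out_eq']
        _ = p' := by
          rw [MulAction.Quotient.smul_coe, smul_eq_mul, inv_mul_cancel_right,
            QuotientGroup.mk_mul_of_mem _ (H.inv_mem k.2), QuotientGroup.out_eq']
    · rw [mul_smul, ← hk', mul_smul, inv_smul_smul, smul_inv_smul]
  let T := Fin 3 ↪ P
  haveI := Fintype.ofFinite T
  have hT : Fintype.card T = H.index * (H.index - 1) * (H.index - 2) := by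
    rw [Fintype.card_embedding_eq, Fintype.card_fin, ← Nat.card_eq_fintype_card]
    simp only [Nat.descFactorial, Subgroup.index, Nat.sub_zero, mul_one]
    ring
  let Φ : T → Q × Q × Q := fun t =>
    (⟨τ (t 0) (t 1), hτne _ _ (fun h => by simpa using t.injective h)⟩,
     ⟨τ (t 0) (t 2), hτne _ _ (fun h => by simpa using t.injective h)⟩,
     ⟨τ (t 1) (t 2), hτne _ _ (fun h => by simpa using t.injective h)⟩)
  have hfib : ∀ c : Q × Q × Q, ((Finset.univ : Finset T).filter fun t => Φ t = c).card ≤ Fintype.card G := by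
    intro c
    rcases ((Finset.univ : Finset T).filter fun t => Φ t = c).eq_empty_or_nonempty with h | ⟨t, ht⟩
    · rw [h, Finset.card_empty]; exact Nat.zero_le _
    rw [Finset.mem_filter] at ht
    refine (Finset.card_le_card (fun s hs => ?_)).trans
      (Finset.card_image_le (s := (Finset.univ : Finset G))
        (f := fun g => t.trans ⟨fun p : P => g • p, MulAction.injective g⟩))
    rw [Finset.mem_filter] at hs
    have he : Φ t = Φ s := ht.2.trans hs.2.symm
    replace he : τ (t 0) (t 1) = τ (s 0) (s 1) ∧ τ (t 0) (t 2) = τ (s 0) (s 2) ∧ τ (t 1) (t 2) = τ (s 1) (s 2) :=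
      ⟨congrArg (fun c : Q × Q × Q => c.1.1) he, congrArg (fun c : Q × Q × Q => c.2.1.1) he,
        congrArg (fun c : Q × Q × Q => c.2.2.1) he⟩
    obtain ⟨g, hg⟩ := hbin 3 t s (by norm_num) (fun i j hij => by
      obtain ⟨g1, a1, b1⟩ := hτeq _ _ _ _ he.1
      obtain ⟨g2, a2, b2⟩ := hτeq _ _ _ _ he.2.1
      obtain ⟨g3, a3, b3⟩ := hτeq _ _ _ _ he.2.2
      fin_cases i <;> fin_cases j <;> first
        | exact absurd rfl hij
        | exact ⟨g1, a1, b1⟩
        | exact ⟨g1, b1, a1⟩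
        | exact ⟨g2, a2, b2⟩
        | exact ⟨g2, b2, a2⟩
        | exact ⟨g3, a3, b3⟩
        | exact ⟨g3, b3, a3⟩)
    exact Finset.mem_image.mpr ⟨g, Finset.mem_univ _, DFunLike.ext _ _ fun i => hg i⟩
  have hmain := Finset.card_le_mul_card_image (f := Φ) (Finset.univ : Finset T) (Fintype.card G) (fun c _ => hfib c)
  rw [Finset.card_univ, hT] at hmain
  have h3 : (Finset.univ.image Φ).card ≤ R ^ 3 := by
    refine (Finset.card_le_univ _).trans ?_
    rw [Fintype.card_prod, Fintype.card_prod, ← Nat.card_eq_fintype_card, pow_three]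
    exact Nat.mul_le_mul hQ (Nat.mul_le_mul hQ hQ)
  have h4 := hmain.trans (Nat.mul_le_mul_left _ h3)
  rw [← Nat.card_eq_fintype_card, mul_comm (Nat.card G)] at h4
  omega

end Cfsg.Agent.Lib.BinaryPSL
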