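import Cfsg.Agent.Lib.BinaryPSL.Basic
import Cfsg.Agent.Lib.Geometry.Dickson.Generate

/-!
Coset actions of `PSL₂` whose point stabiliser contains a non-trivial transvection.
-/

set_option autoImplicit false

namespace Cfsg.Agent.Lib.BinaryPSL

open Matrix
open scoped MatrixGroups
open Cfsg.Agent.Lib.SL2Trace (toPSL toPSL_surjective toPSL_eq toPSL_eq_one toPSL_neg det_eq)
open Cfsg.Agent.Lib.Geometry.Dickson (upper lower sl_ext upper_mul upper_zero upper_inv lower_mul lower_zero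
  eq_top_of_upper_lower)

variable {F : Type*} [Field F] [Fintype F]

local notation "SL2" => Matrix.SpecialLinearGroup (Fin 2) F
local notation "M2" => Matrix (Fin 2) (Fin 2) F
local notation "PSL2" => Matrix.ProjectiveSpecialLinearGroup (Fin 2) F

omit [Fintype F] in
theorem coe_upper' (x : F) : ((upper x : SL2) : M2) = !![1, x; 0, 1] := rfl

omit [Fintype F] in
theorem coe_lower' (x : F) : ((lower x : SL2) : M2) = !![1, 0; x, 1] := rfl

/-- The diagonal element with entries `s, s⁻¹`. -/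
def dg (s : F) (hs : s ≠ 0) : SL2 := ⟨!![s, 0; 0, s⁻¹], by simp [Matrix.det_fin_two, hs]⟩

omit [Fintype F] in
theorem coe_dg (s : F) (hs : s ≠ 0) : ((dg s hs : SL2) : M2) = !![s, 0; 0, s⁻¹] := rfl

omit [Fintype F] in
theorem dg_upper (s e : F) (hs : s ≠ 0) : dg s hs * upper e * (dg s hs)⁻¹ = upper (e * s ^ 2) := by
  rw [mul_inv_eq_iff_eq_mul]
  refine sl_ext ?_
  simp only [Matrix.SpecialLinearGroup.coe_mul, coe_dg, coe_upper']
  ext i j
  fin_cases i <;> fin_cases j <;> simp [Matrix.mul_apply, Fin.sum_univ_two] <;> field_simp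

variable {H : Subgroup (Matrix.ProjectiveSpecialLinearGroup (Fin 2) F)}

omit [Fintype F] in
/-- A subgroup of `SL₂` with all upper transvections and a non-upper element is everything. -/
theorem eq_top_of_nonupper {S : Subgroup SL2} (hU : ∀ x : F, upper x ∈ S) {W : SL2} (hW : W ∈ S)
    (hc : (W : M2) 1 0 ≠ 0) : S = ⊤ := by
  set c := (W : M2) 1 0 with hcdef
  set V := upper (-((W : M2) 0 0) / c) * W * upper (-((W : M2) 1 1) / c) with hV
  have hVm : (V : M2) = !![0, -c⁻¹; c, 0] := by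
    have hd := det_eq W
    simp only [hV, Matrix.SpecialLinearGroup.coe_mul, coe_upper']
    ext i j
    fin_cases i <;> fin_cases j <;> simp [Matrix.mul_apply, Fin.sum_univ_two, Matrix.vecMul, dotProduct, ← hcdef] <;> (try field_simp) <;>
      first | ring1 | linear_combination hd | linear_combination -hd
  have hVS : V ∈ S := S.mul_mem (S.mul_mem (hU _) hW) (hU _)
  refine eq_top_of_upper_lower hU fun x => ?_
  have : lower x = V * upper (-x / c ^ 2) * V⁻¹ := by
    rw [eq_mul_inv_iff_mul_eq]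
    refine sl_ext ?_
    simp only [Matrix.SpecialLinearGroup.coe_mul, coe_lower', coe_upper', hVm]
    ext i j
    fin_cases i <;> fin_cases j <;> simp [Matrix.mul_apply, Fin.sum_univ_two] <;> field_simp
  rw [this]
  exact S.mul_mem (S.mul_mem hVS (hU _)) (S.inv_mem hVS)

omit [Fintype F] in
theorem upper_comm (a b : F) : toPSL (upper b) * toPSL (upper a) = toPSL (upper a) * toPSL (upper b) := by
  rw [← map_mul, ← map_mul, upper_mul, upper_mul, add_comm]

omit [Fintype F] in
theorem upper_ne_one {a : F} (ha : a ≠ 0) : (toPSL (upper a) : PSL2) ≠ 1 := fun h => by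
  rcases toPSL_eq_one.mp h with e | e <;>
    exact ha (by simpa [coe_upper'] using congrArg (fun g : SL2 => (g : M2) 0 1) e)

theorem upper_of_mem (h4 : 4 ≤ Fintype.card F) (hH : H ≠ ⊤) {a : F} (ha : a ≠ 0) (haH : toPSL (upper a) ∈ H)
    {W : SL2} (hW : toPSL W ∈ Nx H (toPSL (upper a))) : (W : M2) 1 0 = 0 := by
  by_contra hc
  set M := Nx H (toPSL (upper a)) with hM
  have hnU : ∀ b : F, ∀ w ∈ M, toPSL (upper b) * w * (toPSL (upper b))⁻¹ ∈ M := fun b w hw =>
    conj_mem_Nx' (upper_comm a b) hw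
  have hall := eq_top_of_nonupper (S := (Subgroup.normalizer (M : Set PSL2)).comap toPSL) (fun b => by
    rw [Subgroup.mem_comap, Subgroup.mem_normalizer_iff]
    refine fun w => ⟨hnU b w, fun h => ?_⟩
    have := hnU (-b) _ h
    rw [← upper_inv, map_inv] at this
    simpa [mul_assoc] using this) (W := W) (Subgroup.le_normalizer hW) hc
  haveI : M.Normal := Subgroup.normalizer_eq_top_iff.mp (eq_top_iff.mpr fun g _ => by
    obtain ⟨g, rfl⟩ := toPSL_surjective g
    exact (hall ▸ Subgroup.mem_top g : g ∈ (Subgroup.normalizer (M : Set PSL2)).comap toPSL))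
  haveI : IsSimpleGroup PSL2 :=
    Matrix.ProjectiveSpecialLinearGroup.rank_two_simple (by rw [Nat.card_eq_fintype_card]; exact h4)
  rcases (inferInstance : M.Normal).eq_bot_or_eq_top with e | e
  · exact upper_ne_one ha (Subgroup.mem_bot.mp (e ▸ (self_mem_Nx (H := H) (toPSL (upper a)) : _ ∈ M)))
  · exact hH (eq_top_iff.mpr (e ▸ Nx_le haH))

/-- Elements in all conjugates through a transvection are unipotent. -/
def UnipNx (H : Subgroup PSL2) (a : F) : Prop :=
  ∀ W : SL2, toPSL W ∈ Nx H (toPSL (upper a)) → (W : M2) 1 0 = 0 ∧ (W : M2) 0 0 * (W : M2) 0 0 = 1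

theorem unipNx_of_notMem (h4 : 4 ≤ Fintype.card F) (hH : H ≠ ⊤) {a : F} (ha : a ≠ 0)
    (haH : toPSL (upper a) ∈ H) {b : F} (hb : toPSL (upper b) ∉ H) : UnipNx H a := by
  intro W hW
  have h10 := upper_of_mem h4 hH ha haH hW
  refine ⟨h10, ?_⟩
  by_contra hs
  set s := (W : M2) 0 0 with hsdef
  have hd := det_eq W
  rw [h10, mul_zero, sub_zero, ← hsdef] at hd
  have hs1 : 1 - s * s ≠ 0 := fun h => hs (by linear_combination -h)
  set e := b / (1 - s * s) with he
  have hmem := (Nx H (toPSL (upper a))).mul_mem (conj_mem_Nx' (upper_comm a e) hW)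
    ((Nx H (toPSL (upper a))).inv_mem hW)
  refine hb (Nx_le haH ?_)
  have : upper b = upper e * W * (upper e)⁻¹ * W⁻¹ := by
    rw [eq_mul_inv_iff_mul_eq, upper_inv]
    refine sl_ext ?_
    have hb' : b = e * (1 - s * s) := by rw [he, div_mul_cancel₀ _ hs1]
    simp only [Matrix.SpecialLinearGroup.coe_mul, coe_upper']
    ext i j
    fin_cases i <;> fin_cases j <;> simp [Matrix.mul_apply, Fin.sum_univ_two, Matrix.vecMul, dotProduct, h10, ← hsdef]
    linear_combination ((W : M2) 1 1) * hb' - e * s * hd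
  rw [this]
  simpa only [map_mul, map_inv] using hmem

/-- Odd characteristic. -/
theorem not_binary_unip_odd (h2 : (2 : F) ≠ 0) {a : F} (ha : a ≠ 0) (hN : UnipNx H a) : ¬ Binary H := by
  have h4 : (4 : F) ≠ 0 := by rw [show (4 : F) = 2 * 2 by norm_num]; exact mul_ne_zero h2 h2
  set Y := lower (4 / a) with hY
  set Z := Y⁻¹ * upper a with hZ
  let G1 : SL2 := ⟨!![0, -(a / 2); 2 / a, 0], by simp [Matrix.det_fin_two]; field_simp⟩
  set G2 := lower (-2 / a) with hG2
  have eY : Y = G1 * (upper a)⁻¹ * G1⁻¹ := by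
    rw [eq_mul_inv_iff_mul_eq, upper_inv]
    refine sl_ext ?_
    simp only [Matrix.SpecialLinearGroup.coe_mul, coe_upper', hY, coe_lower',
      show ((G1 : SL2) : M2) = !![0, -(a / 2); 2 / a, 0] from rfl]
    ext i j
    fin_cases i <;> fin_cases j <;> simp [Matrix.mul_apply, Fin.sum_univ_two] <;> field_simp <;> ring
  have eZ : -Z = G2 * (upper a)⁻¹ * G2⁻¹ := by
    rw [eq_mul_inv_iff_mul_eq, upper_inv, hZ, hY, Cfsg.Agent.Lib.Geometry.Dickson.lower_inv]
    refine sl_ext ?_
    simp only [Matrix.SpecialLinearGroup.coe_mul, Matrix.SpecialLinearGroup.coe_neg, coe_upper', hG2, coe_lower']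
    ext i j
    fin_cases i <;> fin_cases j <;> simp [Matrix.mul_apply, Fin.sum_univ_two] <;> field_simp <;> ring
  refine not_binary_of_triangle (x := toPSL (upper a)) (y := toPSL Y) (z := toPSL Z)
    (by rw [← map_mul, hZ, mul_inv_cancel_left]) ?_
  intro g hx hy hz
  obtain ⟨W, rfl⟩ := toPSL_surjective g
  obtain ⟨w10, w00⟩ := hN W hx
  rw [eY, map_mul, map_mul, map_inv, map_inv, mem_Nx_conj, Nx_inv, ← map_inv, ← map_mul, ← map_mul] at hy
  obtain ⟨v10, -⟩ := hN _ hy
  have w01 : (W : M2) 0 1 = 0 := by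
    simp only [Matrix.SpecialLinearGroup.coe_mul, Matrix.SpecialLinearGroup.coe_inv,
      show ((G1 : SL2) : M2) = !![0, -(a / 2); 2 / a, 0] from rfl, Matrix.adjugate_fin_two] at v10
    simp [Matrix.mul_apply, Fin.sum_univ_two, Matrix.vecMul, dotProduct] at v10
    field_simp at v10
    simpa [h2, ha, h4] using v10
  have hg : (toPSL W : PSL2) = 1 := by
    refine toPSL_eq_one.mpr (Cfsg.Agent.Lib.SL2Trace.eq_scalar_of_entries w10 w01 ?_)
    have hd := det_eq W
    rw [w10, w01] at hd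
    linear_combination ((W : M2) 1 1) * w00 - ((W : M2) 0 0) * hd
  rw [hg, mul_one, ← toPSL_neg Z, eZ, map_mul, map_mul, map_inv, map_inv, mem_Nx_conj, Nx_inv,
    ← map_inv, ← map_inv, ← map_mul, ← map_mul] at hz
  obtain ⟨u10, -⟩ := hN _ hz
  simp only [hG2, upper_inv, Cfsg.Agent.Lib.Geometry.Dickson.lower_inv, Matrix.SpecialLinearGroup.coe_mul,
    coe_upper', coe_lower'] at u10
  simp [Matrix.mul_apply, Fin.sum_univ_two] at u10
  field_simp at u10
  exact h4 (by linear_combination u10)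

/-- Characteristic two. -/
theorem not_binary_unip_two (h2 : (2 : F) = 0) {a : F} (ha : a ≠ 0) (haH : toPSL (upper a) ∈ H)
    (hN : UnipNx H a) {b₀ : F} (hb₀ : toPSL (upper b₀) ∉ H) : ¬ Binary H := by
  classical
  have hneg : ∀ x : F, -x = x := fun x => by linear_combination -x * h2
  have hsqrt : ∀ k : F, ∃ r : F, r * r = k := fun k => by
    obtain ⟨r, hr⟩ := FiniteField.isSquare_of_char_two (by
      by_contra h
      exact Ring.two_ne_zero h h2) k
    exact ⟨r, hr.symm⟩
  have scal : ∀ k c e : F, k ≠ 0 → toPSL (upper e) ∈ Nx H (toPSL (upper c)) →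
      toPSL (upper (k * e)) ∈ Nx H (toPSL (upper (k * c))) := fun k c e hk h => by
    obtain ⟨r, hr⟩ := hsqrt k
    have hr0 : r ≠ 0 := fun h0 => hk (by rw [← hr, h0, mul_zero])
    rw [show k * c = c * r ^ 2 by rw [← hr]; ring, ← dg_upper r c hr0, map_mul, map_mul, map_inv, mem_Nx_conj,
      show k * e = e * r ^ 2 by rw [← hr]; ring, ← dg_upper r e hr0, map_mul, map_mul, map_inv]
    simpa [mul_assoc] using h
  set K : Set F := {k | toPSL (upper (k * a)) ∈ Nx H (toPSL (upper a))} with hK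
  have one_K : (1 : F) ∈ K := by rw [hK, Set.mem_setOf_eq, one_mul]; exact self_mem_Nx _
  have mul_K : ∀ k l, k ∈ K → l ∈ K → k * l ∈ K := fun k l hk hl => by
    rcases eq_or_ne l 0 with rfl | hl0
    · rwa [mul_zero]
    have := scal l a (k * a) hl0 hk
    rw [hK, Set.mem_setOf_eq, show k * l * a = l * (k * a) by ring]
    exact Nx_mono hl this
  have add_K : ∀ k l, k ∈ K → l ∈ K → k + l ∈ K := fun k l hk hl => by
    rw [hK, Set.mem_setOf_eq, add_mul, ← upper_mul, map_mul]
    exact Subgroup.mul_mem _ hk hl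
  have inv_K : ∀ k, k ∈ K → k ≠ 0 → k⁻¹ ∈ K := fun k hk hk0 => by
    have hpow : ∀ n : ℕ, k ^ n ∈ K := fun n => by
      induction n with
      | zero => rwa [pow_zero]
      | succ n ih => rw [pow_succ]; exact mul_K _ _ ih hk
    have hc : 2 ≤ Fintype.card F := Fintype.one_lt_card
    have : k⁻¹ = k ^ (Fintype.card F - 2) := inv_eq_of_mul_eq_one_left (by
      rw [← pow_succ, show Fintype.card F - 2 + 1 = Fintype.card F - 1 by omega,
        FiniteField.pow_card_sub_one_eq_one k hk0])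
    rw [this]; exact hpow _
  obtain ⟨l, hl⟩ : ∃ l : F, l ∉ K := ⟨b₀ / a, fun h => hb₀ (Nx_le haH (by
    rw [hK, Set.mem_setOf_eq, div_mul_cancel₀ _ ha] at h; exact h))⟩
  refine not_binary_of_triangle (x := toPSL (upper a)) (y := toPSL (upper (l * a)))
    (z := toPSL (upper ((1 + l) * a))) ?_ ?_
  · rw [← map_mul, upper_mul]
    congr 2
    linear_combination -(l * a) * h2
  intro g hx hy hz
  obtain ⟨W, rfl⟩ := toPSL_surjective g
  obtain ⟨w10, w00⟩ := hN W hx
  have w1 : (W : M2) 0 0 = 1 := by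
    rcases mul_self_eq_one_iff.mp w00 with e | e
    · exact e
    · rw [e, hneg]
  have hWe : W = upper ((W : M2) 0 1) := by
    have hd := det_eq W
    rw [w10, w1] at hd
    refine sl_ext ?_
    rw [coe_upper']
    ext i j
    fin_cases i <;> fin_cases j <;> simp [w10, w1]
    linear_combination hd
  obtain ⟨k, hk⟩ : ∃ k, k * a = (W : M2) 0 1 := ⟨_, div_mul_cancel₀ _ ha⟩
  rw [hWe, ← hk] at hx hy hz
  have hkK : k ∈ K := hx
  have hl0 : l ≠ 0 := fun h => hl (by
    rw [h, hK, Set.mem_setOf_eq, zero_mul, upper_zero, map_one]; exact Subgroup.one_mem _)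
  have hkl : l⁻¹ * k ∈ K := by
    have := scal l⁻¹ (l * a) (k * a) (inv_ne_zero hl0) hy
    rwa [inv_mul_cancel_left₀ hl0, ← mul_assoc] at this
  rcases eq_or_ne k 0 with rfl | hk0
  · rw [zero_mul, upper_zero, map_one, mul_one, ← map_inv, upper_inv, hneg] at hz
    have h1 : 1 + l ≠ 0 := fun h => hl (by
      rw [show l = 1 by linear_combination h - h2]; exact one_K)
    have := scal (1 + l)⁻¹ ((1 + l) * a) a (inv_ne_zero h1) hz
    rw [inv_mul_cancel_left₀ h1] at this
    have h2' := inv_K _ (this : (1 + l)⁻¹ ∈ K) (inv_ne_zero h1)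
    rw [inv_inv] at h2'
    have := add_K _ _ h2' one_K
    rw [show 1 + l + 1 = l by linear_combination h2] at this
    exact hl this
  · have := mul_K _ _ (inv_K _ hkl (mul_ne_zero (inv_ne_zero hl0) hk0)) hkK
    rw [show (l⁻¹ * k)⁻¹ * k = l by field_simp] at this
    exact hl this

/-! Subgroups containing all upper transvections. -/

theorem upper_of_all (hH : H ≠ ⊤) (hU : ∀ b : F, toPSL (upper b) ∈ H) {W : SL2} (hW : toPSL W ∈ H) :
    (W : M2) 1 0 = 0 := by
  by_contra hc
  have h := eq_top_of_nonupper (S := H.comap toPSL) hU hW hc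
  refine hH (eq_top_iff.mpr fun g _ => ?_)
  obtain ⟨g, rfl⟩ := toPSL_surjective g
  exact (h ▸ Subgroup.mem_top g : g ∈ H.comap toPSL)

/-- A point as a vector. -/
theorem coset_eq (hU : ∀ b : F, toPSL (upper b) ∈ H) {A B : SL2} {d : F} (hd0 : d ≠ 0)
    (hd : toPSL (dg d hd0) ∈ H) (h0 : (A : M2) 0 0 = d * (B : M2) 0 0) (h1 : (A : M2) 1 0 = d * (B : M2) 1 0) :
    ((toPSL A : PSL2) : PSL2 ⧸ H) = ((toPSL B : PSL2) : PSL2 ⧸ H) := by
  rw [eq_comm, QuotientGroup.eq, ← map_inv, ← map_mul]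
  have hd' := det_eq B
  have e00 : ((B⁻¹ * A : SL2) : M2) 0 0 = d := by
    simp [Matrix.SpecialLinearGroup.coe_inv, Matrix.adjugate_fin_two, Matrix.mul_apply, Fin.sum_univ_two, h0, h1]
    linear_combination d * hd'
  have e10 : ((B⁻¹ * A : SL2) : M2) 1 0 = 0 := by
    simp [Matrix.SpecialLinearGroup.coe_inv, Matrix.adjugate_fin_two, Matrix.mul_apply, Fin.sum_univ_two, h0, h1]
    ring
  have hsplit : B⁻¹ * A = dg d hd0 * upper (d⁻¹ * ((B⁻¹ * A : SL2) : M2) 0 1) := by
    have hdd := det_eq (B⁻¹ * A)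
    rw [e00, e10] at hdd
    refine sl_ext ?_
    generalize (B⁻¹ * A : SL2) = C at e00 e10 hdd ⊢
    simp only [Matrix.SpecialLinearGroup.coe_mul, coe_upper', coe_dg]
    ext i j
    fin_cases i <;> fin_cases j <;> simp [Matrix.mul_apply, Fin.sum_univ_two, e00, e10] <;> field_simp
    linear_combination hdd
  rw [hsplit, map_mul]
  exact H.mul_mem hd (hU _)

theorem not_binary_borel (hH : H ≠ ⊤) (hU : ∀ b : F, toPSL (upper b) ∈ H) {W : SL2} (hW : toPSL W ∈ H)
    (hW2 : (W : M2) 0 0 * (W : M2) 0 0 ≠ 1) : ¬ Binary H := by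
  intro hbin
  set s := (W : M2) 0 0 with hs
  have hW10 := upper_of_all hH hU hW
  have hdW := det_eq W
  rw [hW10, mul_zero, sub_zero, ← hs] at hdW
  have hs0 : s ≠ 0 := left_ne_zero_of_mul_eq_one hdW
  have hsH : toPSL (dg s hs0) ∈ H := by
    have e : W = dg s hs0 * upper (s⁻¹ * (W : M2) 0 1) := by
      refine sl_ext ?_
      simp only [Matrix.SpecialLinearGroup.coe_mul, coe_upper', coe_dg]
      ext i j
      fin_cases i <;> fin_cases j <;> simp [Matrix.mul_apply, Fin.sum_univ_two, hW10, ← hs] <;> field_simp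
      linear_combination hdW
    rw [e, map_mul] at hW
    exact (Subgroup.mul_mem_cancel_right H (hU _)).mp hW
  have hsiH : toPSL (dg s⁻¹ (inv_ne_zero hs0)) ∈ H := by
    have e : dg s⁻¹ (inv_ne_zero hs0) = (dg s hs0)⁻¹ := eq_inv_of_mul_eq_one_left (sl_ext (by
      simp only [Matrix.SpecialLinearGroup.coe_mul, coe_dg, Matrix.SpecialLinearGroup.coe_one]
      ext i j
      fin_cases i <;> fin_cases j <;> simp [Matrix.mul_apply, Fin.sum_univ_two, hs0]))
    rw [e, map_inv]
    exact H.inv_mem hsH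
  have hone : toPSL (dg (1 : F) one_ne_zero) ∈ H := by
    rw [show dg (1 : F) one_ne_zero = 1 from sl_ext (by simp [coe_dg, Matrix.one_fin_two]), map_one]
    exact H.one_mem
  -- k = s, k' = s⁻¹
  have hkk : s - s⁻¹ ≠ 0 := fun h => hW2 (by
    have := congrArg (· * s) h
    simp [sub_mul, hs0] at this
    linear_combination this)
  set γ := (1 - s⁻¹) / (s - s⁻¹) with hγ
  have hk1 : s ≠ 1 := fun h => hW2 (by rw [h, mul_one])
  have hγk : γ * s - 1 = s⁻¹ * (γ - 1) := by
    have hh : γ * (s - s⁻¹) = 1 - s⁻¹ := div_mul_cancel₀ _ hkk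
    linear_combination hh
  have hγ0 : γ ≠ 0 := div_ne_zero (fun h => hk1 (by
    have := congrArg (· * s) h
    simp [sub_mul, hs0] at this
    linear_combination this)) hkk
  have hγ1 : γ - 1 ≠ 0 := fun h => hk1 (by
    rw [sub_eq_zero, hγ, div_eq_one_iff_eq hkk] at h
    linear_combination -h)
  let w0 : SL2 := ⟨!![0, -1; 1, 0], by simp [Matrix.det_fin_two]⟩
  have hw0 : (w0 : M2) = !![0, -1; 1, 0] := rfl
  obtain ⟨t, ht⟩ : ∃ t, t = (s - 1) / (γ - 1) := ⟨_, rfl⟩
  let T3 : SL2 := ⟨!![1 - t, t; -t, 1 + t], by simp [Matrix.det_fin_two]; ring⟩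
  have hT3 : (T3 : M2) = !![1 - t, t; -t, 1 + t] := rfl
  have mk : ∀ (A B T : SL2) (d : F) (hd0 : d ≠ 0), toPSL (dg d hd0) ∈ H →
      ((T * A : SL2) : M2) 0 0 = d * (B : M2) 0 0 → ((T * A : SL2) : M2) 1 0 = d * (B : M2) 1 0 →
      (toPSL T : PSL2) • ((toPSL A : PSL2) : PSL2 ⧸ H) = (toPSL B : PSL2) := fun A B T d hd0 hd e0 e1 => by
    rw [MulAction.Quotient.smul_coe, smul_eq_mul, ← map_mul]
    exact coset_eq hU hd0 hd e0 e1
  have col : ∀ (A B T : SL2), (toPSL T : PSL2) • ((toPSL A : PSL2) : PSL2 ⧸ H) = (toPSL B : PSL2) →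
      ∃ d : F, ((T * A : SL2) : M2) 0 0 = d * (B : M2) 0 0 ∧ ((T * A : SL2) : M2) 1 0 = d * (B : M2) 1 0 := by
    intro A B T h
    rw [MulAction.Quotient.smul_coe, smul_eq_mul, ← map_mul, eq_comm, QuotientGroup.eq, ← map_inv, ← map_mul] at h
    have h10 := upper_of_all hH hU h
    refine ⟨(B⁻¹ * (T * A) : SL2).1 0 0, ?_⟩
    have e : T * A = B * (B⁻¹ * (T * A)) := by group
    constructor <;>
    · conv_lhs => rw [e]
      rw [Matrix.SpecialLinearGroup.coe_mul, Matrix.mul_apply, Fin.sum_univ_two, h10, mul_zero, add_zero, mul_comm]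
  refine not_binary_of_four (p₀ := ((toPSL (1 : SL2) : PSL2) : PSL2 ⧸ H)) (p₁ := (toPSL w0 : PSL2))
    (p₂ := (toPSL (lower 1) : PSL2)) (p₃ := (toPSL (lower γ) : PSL2)) (q₃ := (toPSL (lower (γ * s)) : PSL2))
    ?_ ?_ ?_ ?_ hbin
  · exact ⟨toPSL (upper ((s⁻¹ - 1) / γ)), mk _ _ _ 1 one_ne_zero hone (by simp [coe_upper'])
      (by simp [coe_upper']), mk _ _ _ s⁻¹ (inv_ne_zero hs0) hsiH
      (by simp [coe_upper', coe_lower', hγ0]) (by simp [coe_upper', coe_lower']; field_simp)⟩
  · exact ⟨toPSL (lower (γ * s - γ)), mk _ _ _ 1 one_ne_zero hone (by simp [coe_lower', hw0])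
      (by simp [coe_lower', hw0]), mk _ _ _ 1 one_ne_zero hone (by simp [coe_lower']) (by simp [coe_lower'])⟩
  · exact ⟨toPSL T3, mk _ _ _ 1 one_ne_zero hone (by simp [coe_lower', hT3]) (by simp [coe_lower', hT3]),
      mk _ _ _ s hs0 hsH (by
        simp [coe_lower', hT3, Matrix.mul_apply, Fin.sum_univ_two]
        rw [ht]; field_simp; ring) (by
        simp [coe_lower', hT3, Matrix.mul_apply, Fin.sum_univ_two]
        rw [ht]
        have h' : s * (γ * s - 1) = γ - 1 := by rw [hγk]; field_simp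
        field_simp
        linear_combination -(γ - 1) * h')⟩
  · intro g g0 g1 g2 g3
    obtain ⟨T, rfl⟩ := toPSL_surjective g
    obtain ⟨d0, a0, b0⟩ := col _ _ _ g0
    obtain ⟨d1, a1, b1⟩ := col _ _ _ g1
    obtain ⟨d2, a2, b2⟩ := col _ _ _ g2
    obtain ⟨d3, a3, b3⟩ := col _ _ _ g3
    have hdT := det_eq T
    simp [Matrix.mul_apply, Fin.sum_univ_two, hw0, coe_lower'] at a0 b0 a1 b1 a2 b2 a3 b3
    rw [b0, a1] at hdT
    simp only [a1, b0, zero_mul, zero_add, add_zero] at a2 b2 a3 b3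
    refine hk1 ?_
    have h0 : (T : M2) 0 0 ≠ 0 := fun h => by rw [h] at hdT; simp at hdT
    have : (T : M2) 0 0 * (γ * (s - 1)) = 0 := by
      linear_combination (γ * s) * a3 - b3 - γ * a2 + γ * b2
    rcases mul_eq_zero.mp this with h | h
    · exact absurd h h0
    · rcases mul_eq_zero.mp h with h | h
      · exact absurd h hγ0
      · exact sub_eq_zero.mp h

/-- The action on non-zero vectors. -/
theorem binary_unipotent (h2 : (2 : F) = 0) (hH : ∀ W : SL2, toPSL W ∈ H ↔ (W : M2) 1 0 = 0 ∧ (W : M2) 0 0 = 1) :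
    Binary H := by
  classical
  have hU : ∀ b : F, toPSL (upper b) ∈ H := fun b => (hH _).mpr (by simp [coe_upper'])
  have hneg : ∀ x : F, -x = x := fun x => by linear_combination -x * h2
  intro n I J hn hp
  have hsurj : ∀ p : PSL2 ⧸ H, ∃ A : SL2, ((toPSL A : PSL2) : PSL2 ⧸ H) = p := fun p => by
    obtain ⟨A, hA⟩ := toPSL_surjective p.out
    exact ⟨A, by rw [hA, QuotientGroup.out_eq']⟩
  choose A hA using fun i => hsurj (I i)
  choose B hB using fun i => hsurj (J i)
  let v : Fin n → Fin 2 → F := fun i k => (A i : M2) k 0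
  let w : Fin n → Fin 2 → F := fun i k => (B i : M2) k 0
  have hiff : ∀ (T : SL2) i, (toPSL T : PSL2) • I i = J i ↔
      (T : M2) 0 0 * v i 0 + (T : M2) 0 1 * v i 1 = w i 0 ∧ (T : M2) 1 0 * v i 0 + (T : M2) 1 1 * v i 1 = w i 1 := by
    intro T i
    rw [← hA i, ← hB i, MulAction.Quotient.smul_coe, smul_eq_mul, ← map_mul]
    constructor
    · intro h
      rw [eq_comm, QuotientGroup.eq, ← map_inv, ← map_mul, hH] at h
      have e : T * A i = B i * ((B i)⁻¹ * (T * A i)) := by group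
      have c : ∀ k, ((T * A i : SL2) : M2) k 0 = (B i : M2) k 0 := fun k => by
        rw [e, Matrix.SpecialLinearGroup.coe_mul, Matrix.mul_apply, Fin.sum_univ_two, h.1, h.2, mul_one, mul_zero,
          add_zero]
      simpa [v, w, Matrix.mul_apply, Fin.sum_univ_two] using And.intro (c 0) (c 1)
    · rintro ⟨e0, e1⟩
      refine coset_eq hU one_ne_zero ((hH _).mpr (by simp [coe_dg])) ?_ ?_ <;>
        simpa [v, w, Matrix.mul_apply, Fin.sum_univ_two]
  let det : (Fin 2 → F) → (Fin 2 → F) → F := fun p q => p 0 * q 1 - p 1 * q 0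
  let i0 : Fin n := ⟨0, by omega⟩
  have key : ∀ i j, i ≠ j → ∃ T : SL2, (toPSL T : PSL2) • I i = J i ∧ (toPSL T : PSL2) • I j = J j := by
    intro i j hij
    obtain ⟨g, hg⟩ := hp i j hij
    obtain ⟨T, rfl⟩ := toPSL_surjective g
    exact ⟨T, hg⟩
  by_cases hind : ∃ j, det (v i0) (v j) ≠ 0
  · obtain ⟨j, hj⟩ := hind
    have hij : i0 ≠ j := fun h => hj (by simp [det, h]; ring)
    obtain ⟨T, h0, hjj⟩ := key i0 j hij
    refine ⟨toPSL T, fun k => ?_⟩
    by_cases hk0 : k = i0
    · rw [hk0]; exact h0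
    by_cases hkj : k = j
    · rw [hkj]; exact hjj
    obtain ⟨S, s0, sk⟩ := key i0 k (Ne.symm hk0)
    obtain ⟨R, rj, rk⟩ := key j k (Ne.symm hkj)
    rw [hiff] at h0 hjj s0 sk rj rk ⊢
    have hT := det_eq T
    have hS := det_eq S
    have hR := det_eq R
    have d0 : det (w i0) (w k) = det (v i0) (v k) := by
      simp only [det, ← s0.1, ← s0.2, ← sk.1, ← sk.2]; linear_combination (v i0 0 * v k 1 - v i0 1 * v k 0) * hS
    have dj : det (w j) (w k) = det (v j) (v k) := by
      simp only [det, ← rj.1, ← rj.2, ← rk.1, ← rk.2]; linear_combination (v j 0 * v k 1 - v j 1 * v k 0) * hR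
    set u0 := (T : M2) 0 0 * v k 0 + (T : M2) 0 1 * v k 1
    set u1 := (T : M2) 1 0 * v k 0 + (T : M2) 1 1 * v k 1
    have e0 : w i0 0 * (u1 - w k 1) - w i0 1 * (u0 - w k 0) = 0 := by
      simp only [det] at d0
      linear_combination -d0 - u1 * h0.1 + u0 * h0.2 + (v i0 0 * v k 1 - v i0 1 * v k 0) * hT
    have ej : w j 0 * (u1 - w k 1) - w j 1 * (u0 - w k 0) = 0 := by
      simp only [det] at dj
      linear_combination -dj - u1 * hjj.1 + u0 * hjj.2 + (v j 0 * v k 1 - v j 1 * v k 0) * hT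
    have hD : w i0 0 * w j 1 - w i0 1 * w j 0 ≠ 0 := by
      rw [show w i0 0 * w j 1 - w i0 1 * w j 0 = det (v i0) (v j) by
        simp only [det, ← h0.1, ← h0.2, ← hjj.1, ← hjj.2]; linear_combination (v i0 0 * v j 1 - v i0 1 * v j 0) * hT]
      exact hj
    constructor
    · have : (w i0 0 * w j 1 - w i0 1 * w j 0) * (u0 - w k 0) = 0 := by
        linear_combination (w j 0) * e0 - (w i0 0) * ej
      exact sub_eq_zero.mp ((mul_eq_zero.mp this).resolve_left hD)
    · have : (w i0 0 * w j 1 - w i0 1 * w j 0) * (u1 - w k 1) = 0 := by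
        linear_combination (w j 1) * e0 - (w i0 1) * ej
      exact sub_eq_zero.mp ((mul_eq_zero.mp this).resolve_left hD)
  · push Not at hind
    haveI : Nontrivial (Fin n) := Fin.nontrivial_iff_two_le.mpr hn
    obtain ⟨j, hj⟩ := exists_ne i0
    obtain ⟨T, h0, -⟩ := key i0 j hj.symm
    refine ⟨toPSL T, fun k => ?_⟩
    by_cases hk0 : k = i0
    · rw [hk0]; exact h0
    obtain ⟨S, s0, sk⟩ := key i0 k (Ne.symm hk0)
    rw [hiff] at h0 s0 sk ⊢
    have hd := hind k
    simp only [det] at hd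
    obtain ⟨c, c0, c1⟩ : ∃ c, v k 0 = c * v i0 0 ∧ v k 1 = c * v i0 1 := by
      by_cases h : v i0 0 = 0
      · have h1 : v i0 1 ≠ 0 := fun h1 => by
          have := det_eq (A i0)
          simp only [v] at h h1
          rw [h, h1] at this
          simp at this
        refine ⟨v k 1 / v i0 1, ?_, (div_mul_cancel₀ _ h1).symm⟩
        rw [h, zero_mul, zero_sub, neg_eq_zero] at hd
        rw [h, mul_zero, (mul_eq_zero.mp hd).resolve_left h1]
      · exact ⟨v k 0 / v i0 0, (div_mul_cancel₀ _ h).symm, by field_simp; linear_combination hd⟩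
    constructor
    · rw [← sk.1, c0, c1]; linear_combination c * h0.1 - c * s0.1
    · rw [← sk.2, c0, c1]; linear_combination c * h0.2 - c * s0.2

end Cfsg.Agent.Lib.BinaryPSL
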