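import Cfsg.Agent.Lib.BinaryPSL.Small
import Cfsg.Agent.Lib.BinaryPSL.Unipotent
import Cfsg.Agent.Lib.Geometry.Dickson.Main
import Cfsg.Agent.Lib.Geometry.Dickson.PGLAux

/-!
The two regimes for binary coset actions of `PSL₂(q)`: order of the stabiliser divisible by, or prime
to, the characteristic.
-/

set_option autoImplicit false

namespace Cfsg.Agent.Lib.BinaryPSL

open Matrix
open scoped MatrixGroups
open Cfsg.Agent.Lib.SL2Trace (tr tr_eq det_eq toPSL toPSL_surjective toPSL_eq toPSL_eq_one mem_center_iff sq_eq toPSL_neg)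
open Cfsg.Agent.Lib.Geometry.Dickson (sl_ext upper upper_mul upper_zero upper_notMem_center exists_fixed_vector
  exists_eq_upper_of_fix exists_sylow_cell cell mem_centralizer_iff IsSplit subType SubType)

variable {F : Type*} [Field F] [Fintype F]

local notation "SL2" => Matrix.SpecialLinearGroup (Fin 2) F
local notation "M2" => Matrix (Fin 2) (Fin 2) F
local notation "PSL2" => Matrix.ProjectiveSpecialLinearGroup (Fin 2) F

variable {H : Subgroup (Matrix.ProjectiveSpecialLinearGroup (Fin 2) F)}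

theorem mem_map_conj (c : PSL2) (a : PSL2) : a ∈ H.map (MulAut.conj c).toMonoidHom ↔ c⁻¹ * a * c ∈ H := by
  constructor
  · rintro ⟨w, hw, rfl⟩
    simpa [MulAut.conj_apply, mul_assoc] using hw
  · intro ha
    exact ⟨_, ha, by simp [MulAut.conj_apply, mul_assoc]⟩

theorem card_map_conj (c : PSL2) : Nat.card (H.map (MulAut.conj c).toMonoidHom) = Nat.card H :=
  (Nat.card_congr (H.equivMapOfInjective _ (MulAut.conj c).injective).toEquiv).symm

theorem map_conj_ne_top (hH : H ≠ ⊤) (c : PSL2) : H.map (MulAut.conj c).toMonoidHom ≠ ⊤ := fun h => hH (by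
  refine (Subgroup.eq_top_iff' _).mpr fun a => ?_
  have := (mem_map_conj c (c * a * c⁻¹)).mp (h ▸ Subgroup.mem_top _)
  simpa [mul_assoc] using this)

omit [Fintype F] in
/-- An element of trace `±2` is conjugate to an upper transvection. -/
theorem exists_conj_upper {X : SL2} (ht : tr X ^ 2 = 4) (hX : toPSL X ≠ 1) :
    ∃ (c : SL2) (a : F), a ≠ 0 ∧ toPSL (c⁻¹ * X * c) = toPSL (upper a) := by
  obtain ⟨v, ε, hv, hε, -, hXv⟩ := exists_fixed_vector ht
  obtain ⟨c, hc⟩ : ∃ c : SL2, (c : M2) *ᵥ ![1, 0] = v := by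
    by_cases h0 : v 0 = 0
    · have h1 : v 1 ≠ 0 := fun h1 => hv (by ext i; fin_cases i <;> assumption)
      refine ⟨⟨!![0, -(v 1)⁻¹; v 1, 0], by simp [Matrix.det_fin_two, h1]⟩, ?_⟩
      ext i; fin_cases i <;> simp [h0]
    · refine ⟨⟨!![v 0, 0; v 1, (v 0)⁻¹], by simp [Matrix.det_fin_two, h0]⟩, ?_⟩
      ext i; fin_cases i <;> simp
  have hfix : ((c⁻¹ * X * c : SL2) : M2) *ᵥ ![1, 0] = ε • ![1, 0] := by
    have e : ((c⁻¹ : SL2) : M2) * (c : M2) = 1 := by
      rw [← Matrix.SpecialLinearGroup.coe_mul, inv_mul_cancel, Matrix.SpecialLinearGroup.coe_one]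
    rw [Matrix.SpecialLinearGroup.coe_mul, Matrix.SpecialLinearGroup.coe_mul, ← Matrix.mulVec_mulVec, hc,
      ← Matrix.mulVec_mulVec, hXv, Matrix.mulVec_smul, ← hc, Matrix.mulVec_mulVec, e, Matrix.one_mulVec]
  obtain ⟨a, ha⟩ := exists_eq_upper_of_fix hε hfix
  have he : toPSL (c⁻¹ * X * c) = toPSL (upper a) := by
    rcases ha with h | h <;> rw [h]
    exact toPSL_neg _
  refine ⟨c, a, fun h0 => hX ?_, he⟩
  rw [h0, upper_zero, map_one, map_mul, map_mul, map_inv, mul_eq_one_iff_eq_inv, inv_mul_eq_iff_eq_mul,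
    mul_inv_cancel] at he
  exact he

/-- The image of the upper transvections. -/
noncomputable def upperImage (F : Type*) [Field F] : Subgroup (Matrix.ProjectiveSpecialLinearGroup (Fin 2) F) where
  carrier := {g | ∃ b : F, toPSL (upper b) = g}
  one_mem' := ⟨0, by rw [upper_zero, map_one]⟩
  mul_mem' := by
    rintro _ _ ⟨a, rfl⟩ ⟨b, rfl⟩
    exact ⟨a + b, by rw [← map_mul, upper_mul]⟩
  inv_mem' := by
    rintro _ ⟨a, rfl⟩
    exact ⟨-a, by rw [← map_inv, Cfsg.Agent.Lib.Geometry.Dickson.upper_inv]⟩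

theorem card_upperImage : Nat.card (upperImage F) = Fintype.card F := by
  rw [← Nat.card_eq_fintype_card]
  refine (Nat.card_congr (Equiv.ofBijective (fun b : F => (⟨toPSL (upper b), b, rfl⟩ : upperImage F)) ⟨?_, ?_⟩)).symm
  · intro a b h
    have h' : toPSL (upper a) = toPSL (upper b) := congrArg Subtype.val h
    by_contra hab
    have : toPSL (upper (-a + b)) = (1 : PSL2) := by
      rw [← upper_mul, map_mul, ← Cfsg.Agent.Lib.Geometry.Dickson.upper_inv, map_inv, h', inv_mul_cancel]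
    exact upper_ne_one (fun h0 => hab (neg_add_eq_zero.mp h0)) this
  · rintro ⟨_, b, rfl⟩
    exact ⟨b, rfl⟩

omit [Fintype F] in
theorem neg_eq_self_of_two (h2 : (2 : F) = 0) (W : SL2) : -W = W := by
  refine sl_ext ?_
  ext i j
  simp only [Matrix.SpecialLinearGroup.coe_neg, Matrix.neg_apply]
  linear_combination -((W : M2) i j) * h2

omit [Fintype F] in
theorem mem_upperImage (h2 : (2 : F) = 0) (W : SL2) :
    toPSL W ∈ upperImage F ↔ (W : M2) 1 0 = 0 ∧ (W : M2) 0 0 = 1 := by
  constructor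
  · rintro ⟨b, hb⟩
    have : W = upper b := by
      rcases toPSL_eq.mp hb with h | h
      · exact h
      · rw [h, neg_eq_self_of_two h2]
    rw [this]
    simp [coe_upper']
  · rintro ⟨h10, h00⟩
    have hd := det_eq W
    rw [h10, h00, one_mul, mul_zero, sub_zero] at hd
    refine ⟨(W : M2) 0 1, congrArg toPSL (sl_ext ?_)⟩
    ext i j
    fin_cases i <;> fin_cases j <;> simp [coe_upper', h10, h00, hd]

theorem charP_two_of_card {a : ℕ} (ha : Fintype.card F = 2 ^ a) (p : ℕ) [Fact p.Prime] [CharP F p] : p = 2 := by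
  obtain ⟨n, hp, h⟩ := FiniteField.card F p
  have hpp : p ∣ 2 ^ a := by rw [← ha, h]; exact dvd_pow_self p n.ne_zero
  exact (Nat.prime_dvd_prime_iff_eq hp Nat.prime_two).mp (hp.dvd_of_dvd_pow hpp)

/-- In characteristic two a subgroup of order `q` is a Sylow `2`-subgroup. -/
theorem exists_sylow_of_card [CharP F 2] (h : Nat.card H = Fintype.card F) : ∃ P : Sylow 2 PSL2, H = P := by
  haveI : Fact (Nat.Prime 2) := ⟨Nat.prime_two⟩
  obtain ⟨n, -, hn⟩ := FiniteField.card F 2
  have hP : IsPGroup 2 H := IsPGroup.of_card (n := n) (by rw [h, hn])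
  obtain ⟨P, hle⟩ := hP.exists_le_sylow
  refine ⟨P, Subgroup.eq_of_le_of_card_ge hle ?_⟩
  obtain ⟨k, hk⟩ := P.2.exists_card_eq
  have hd : Nat.card P ∣ Nat.card PSL2 := Subgroup.card_subgroup_dvd_card (P : Subgroup PSL2)
  have hg := Cfsg.Agent.Lib.Classical.card_PSL2_mul (F := F)
  have hev : Fintype.card F % 2 = 0 := by rw [hn]; simp [Nat.pow_mod]
  have hq := Fintype.one_lt_card (α := F)
  have hc : Nat.Coprime 2 (Fintype.card F - 1) := by
    rw [Nat.prime_two.coprime_iff_not_dvd]; omega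
  rw [Nat.coprime_iff_gcd_eq_one.mp hc, one_mul] at hg
  rw [hg, hk] at hd
  have hc2 : Nat.Coprime (2 ^ k) (Fintype.card F ^ 2 - 1) := by
    refine Nat.Coprime.pow_left _ ?_
    rw [Nat.prime_two.coprime_iff_not_dvd]
    have hsq : Fintype.card F ^ 2 % 2 = 0 := by simp [Nat.pow_mod, hev]
    have : 1 ≤ Fintype.card F ^ 2 := Nat.one_le_pow _ _ (by omega)
    omega
  rw [h]
  exact hk.le.trans (Nat.le_of_dvd (by omega) (hc2.dvd_of_dvd_mul_right hd))

theorem binary_sylow [CharP F 2] (P : Sylow 2 PSL2) : Binary (P : Subgroup PSL2) := by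
  haveI : Fact (Nat.Prime 2) := ⟨Nat.prime_two⟩
  obtain ⟨U, hU⟩ := exists_sylow_of_card (H := upperImage F) card_upperImage
  obtain ⟨g, hg⟩ := MulAction.exists_smul_eq PSL2 U P
  have h2 : (2 : F) = 0 := by exact_mod_cast CharP.cast_eq_zero F 2
  have hb : Binary (upperImage F) := binary_unipotent h2 (mem_upperImage h2)
  have := binary_conj g hb
  rw [hU] at this
  rw [← hg, Sylow.coe_subgroup_smul]
  exact this

/-- An element of order `p` has trace `±2`. -/
theorem tr_sq_of_orderOf {X : SL2} (p : ℕ) [Fact p.Prime] [CharP F p] (h : orderOf (toPSL X) = p) : tr X ^ 2 = 4 := by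
  have hq := Fintype.one_lt_card (α := F)
  by_contra ht
  rcases eq_or_ne p 2 with rfl | hp2
  · have h2 : (2 : F) = 0 := by exact_mod_cast CharP.cast_eq_zero F 2
    have hsq : toPSL (X * X) = 1 := by
      have := pow_orderOf_eq_one (toPSL X)
      rwa [h, sq, ← map_mul] at this
    have hXX : X * X = 1 := by
      rcases toPSL_eq_one.mp hsq with e | e
      · exact e
      · rw [e, neg_eq_self_of_two h2]
    have hm : tr X • (X : M2) = (X * X : SL2) + 1 := by
      rw [Matrix.SpecialLinearGroup.coe_mul, sq_eq]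
      abel
    rw [hXX] at hm
    have h0 : tr X = 0 := by
      by_contra h0
      have h00 := congrArg (fun M : M2 => M 0 0) hm
      have h01 := congrArg (fun M : M2 => M 0 1) hm
      have h10 := congrArg (fun M : M2 => M 1 0) hm
      simp only [Matrix.smul_apply, Matrix.add_apply, Matrix.SpecialLinearGroup.coe_one, Matrix.one_apply_eq,
        Matrix.one_apply_ne (show (0 : Fin 2) ≠ 1 by decide), Matrix.one_apply_ne (show (1 : Fin 2) ≠ 0 by decide),
        smul_eq_mul, add_zero, mul_eq_zero, h0, false_or] at h00 h01 h10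
      have hd := det_eq X
      rw [h01, h10, mul_zero, sub_zero] at hd
      have hz : (X : M2) 0 0 = 0 := by
        rcases mul_eq_zero.mp (show tr X * (X : M2) 0 0 = 0 by linear_combination h00 + h2) with e | e
        · exact absurd e h0
        · exact e
      rw [hz, zero_mul] at hd
      exact zero_ne_one hd
    exact ht (by rw [h0]; linear_combination (-2 : F) * h2)
  · have hodd : Fintype.card F % 2 = 1 := by
      obtain ⟨n, hp, hn⟩ := FiniteField.card F p
      rw [hn]
      exact Nat.odd_iff.mp ((hp.odd_of_ne_two hp2).pow)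
    have h0 : tr X ≠ 0 := fun h0 => hp2 ((Nat.prime_dvd_prime_iff_eq Fact.out Nat.prime_two).mp
      (h ▸ orderOf_dvd_of_pow_eq_one (by rw [sq]; exact sq_eq_one_of_tr_zero h0)))
    set C := Subgroup.centralizer ({toPSL X} : Set PSL2)
    have hdvd : p ∣ Nat.card C := by
      have := orderOf_dvd_natCard (⟨toPSL X, Subgroup.mem_centralizer_singleton_iff.mpr rfl⟩ : C)
      rwa [← Subgroup.orderOf_coe, h] at this
    obtain ⟨n, -, hn⟩ := FiniteField.card F p
    have hpq : p ∣ Fintype.card F := hn ▸ dvd_pow_self p n.ne_zero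
    have hp1 := (Fact.out : p.Prime).one_lt
    have h1 : p ∣ 1 := by
      rcases card_centralizer hodd h0 ht with e | e
      · exact (Nat.dvd_add_right (hdvd.mul_left 2)).mp (by rw [e]; exact hpq)
      · exact (Nat.dvd_add_right hpq).mp (by rw [← e]; exact hdvd.mul_left 2)
    exact hp1.ne' (Nat.dvd_one.mp h1)

/-- Stabilisers of order divisible by the characteristic. -/
theorem sylow_of_binary (h4 : 4 ≤ Fintype.card F) (hH : H ≠ ⊤) (p : ℕ) [Fact p.Prime] [CharP F p]
    (hp : p ∣ Nat.card H) (hbin : Binary H) : p = 2 ∧ Nat.card H = Fintype.card F := by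
  obtain ⟨x, hx⟩ := exists_prime_orderOf_dvd_card' p hp
  obtain ⟨X, hX⟩ := toPSL_surjective (x : PSL2)
  have hx' : orderOf (toPSL X) = p := by rw [hX, Subgroup.orderOf_coe, hx]
  have hne : toPSL X ≠ 1 := fun h => by
    rw [h, orderOf_one] at hx'
    exact (Fact.out : p.Prime).one_lt.ne hx'
  have ht : tr X ^ 2 = 4 := tr_sq_of_orderOf p hx'
  obtain ⟨c, a, ha, hca⟩ := exists_conj_upper ht hne
  have hbK := binary_conj (toPSL c)⁻¹ hbin
  set K := H.map (MulAut.conj (toPSL c)⁻¹).toMonoidHom with hK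
  have hKtop : K ≠ ⊤ := map_conj_ne_top hH _
  have hKc : Nat.card K = Nat.card H := card_map_conj _
  have haK : toPSL (upper a) ∈ K := by
    rw [hK, mem_map_conj, ← hca, map_mul, map_mul, map_inv]
    have : toPSL c * ((toPSL c)⁻¹ * toPSL X * toPSL c) * (toPSL c)⁻¹ = toPSL X := by group
    rw [inv_inv, this, hX]
    exact x.2
  rw [← hKc]
  clear_value K
  by_cases hb : ∃ b, toPSL (upper b) ∉ K
  · obtain ⟨b, hb⟩ := hb
    have hN := unipNx_of_notMem h4 hKtop ha haK hb
    rcases eq_or_ne (2 : F) 0 with h2 | h2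
    · exact absurd hbK (not_binary_unip_two h2 ha haK hN hb)
    · exact absurd hbK (not_binary_unip_odd h2 ha hN)
  push Not at hb
  by_cases hW : ∃ W : SL2, toPSL W ∈ K ∧ (W : M2) 0 0 * (W : M2) 0 0 ≠ 1
  · obtain ⟨W, hW, hW2⟩ := hW
    exact absurd hbK (not_binary_borel hKtop hb hW hW2)
  push Not at hW
  have hK10 : ∀ W : SL2, toPSL W ∈ K → (W : M2) 1 0 = 0 := fun W h => upper_of_all hKtop hb h
  rcases eq_or_ne (2 : F) 0 with h2 | h2
  · have hp2 : p = 2 := ((CharP.cast_eq_zero_iff F p 2).mp (by exact_mod_cast h2) |>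
      (Nat.prime_dvd_prime_iff_eq Fact.out Nat.prime_two).mp)
    have hKU : K = upperImage F := by
      ext g
      obtain ⟨W, rfl⟩ := toPSL_surjective g
      constructor
      · intro h
        rw [mem_upperImage h2]
        refine ⟨hK10 W h, ?_⟩
        have := hW W h
        have hz : ((W : M2) 0 0 - 1) * ((W : M2) 0 0 - 1) = 0 := by
          linear_combination this - ((W : M2) 0 0 - 1) * h2
        exact sub_eq_zero.mp (mul_self_eq_zero.mp hz)
      · rintro ⟨b, hb'⟩
        exact hb' ▸ hb b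
    exact ⟨hp2, by rw [hKU, card_upperImage]⟩
  · refine absurd hbK (not_binary_unip_odd h2 ha fun W h => ?_)
    exact ⟨hK10 W (Nx_le haK h), hW W (Nx_le haK h)⟩

end Cfsg.Agent.Lib.BinaryPSL
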