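import Cfsg.Agent.Lib.BinaryPSL.Semisimple

/-!
Coset actions of `PSL₂(q)`, `q` odd, obstructed by an involution of the point stabiliser.
-/

set_option autoImplicit false

namespace Cfsg.Agent.Lib.BinaryPSL

open Matrix
open scoped MatrixGroups
open Cfsg.Agent.Lib.SL2Trace (tr tr_eq tr_conj tr_inv toPSL toPSL_surjective toPSL_eq_one mem_center_iff sq_eq)
open Cfsg.Agent.Lib.Geometry.Dickson (sl_ext mem_centralizer_iff eq_or_eq_inv_of_tr invol_data isConj_invol
  central_eq_half zmod_double_eq_zero half_add_half half_ne_zero orderOf_eq_two_iff' centralizer_invol exists_lift_invol)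

variable {F : Type*} [Field F] [Fintype F]

local notation "SL2" => Matrix.SpecialLinearGroup (Fin 2) F
local notation "M2" => Matrix (Fin 2) (Fin 2) F
local notation "PSL2" => Matrix.ProjectiveSpecialLinearGroup (Fin 2) F

variable {H : Subgroup (Matrix.ProjectiveSpecialLinearGroup (Fin 2) F)}

omit [Fintype F] in
theorem sq_eq_one_of_tr_zero {W : SL2} (h : tr W = 0) : toPSL W * toPSL W = 1 := by
  rw [← map_mul]
  refine toPSL_eq_one.mpr (Or.inr (sl_ext ?_))
  rw [Matrix.SpecialLinearGroup.coe_mul, sq_eq, h, zero_smul, zero_sub, Matrix.SpecialLinearGroup.coe_neg,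
    Matrix.SpecialLinearGroup.coe_one]

/-- The reflections of the centraliser of an involution. -/
theorem refl_data (hodd : Fintype.card F % 2 = 1) (h7 : 7 ≤ Fintype.card F) {x : PSL2} (hx : orderOf x = 2) :
    ∃ (m : ℕ) (e : Subgroup.centralizer ({x} : Set PSL2) ≃* DihedralGroup m), 2 ∣ m ∧ 4 ≤ m ∧
      (2 * m + 1 = Fintype.card F ∨ 2 * m = Fintype.card F + 1) ∧
      e ⟨x, Subgroup.mem_centralizer_singleton_iff.mpr rfl⟩ = .r ((m / 2 : ℕ) : ZMod m) := by
  obtain ⟨m, hm, hm0, hmq, -, ⟨e⟩⟩ := invol_data hodd hx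
  haveI : NeZero m := ⟨hm0⟩
  obtain ⟨hx2, hx1⟩ := orderOf_eq_two_iff'.mp hx
  refine ⟨m, e, hm, by omega, hmq, central_eq_half (by omega) ?_ ?_ ?_⟩
  · rw [← map_mul, ← e.map_one]; exact congrArg e (Subtype.ext hx2)
  · exact fun h => hx1 (congrArg Subtype.val (e.injective (h.trans e.map_one.symm)))
  · intro z
    obtain ⟨z, rfl⟩ := e.surjective z
    rw [← map_mul, ← map_mul]
    exact congrArg e (Subtype.ext (Subgroup.mem_centralizer_singleton_iff.mp z.2))

theorem exists_commuting_invol (hodd : Fintype.card F % 2 = 1) (h7 : 7 ≤ Fintype.card F) {x : PSL2}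
    (hx : orderOf x = 2) : ∃ f : Fin 3 → PSL2, Function.Injective f ∧
      ∀ i, orderOf (f i) = 2 ∧ f i ≠ x ∧ f i * x = x * f i := by
  obtain ⟨m, e, hm, h4, -, hex⟩ := refl_data hodd h7 hx
  haveI : NeZero m := ⟨by omega⟩
  refine ⟨fun i => (e.symm (.sr ((i : ℕ) : ZMod m))).1, fun i j h => ?_, fun i => ⟨?_, ?_, ?_⟩⟩
  · have := e.symm.injective (Subtype.ext h)
    rw [DihedralGroup.sr.injEq, ZMod.natCast_eq_natCast_iff'] at this
    rw [Nat.mod_eq_of_lt (by omega), Nat.mod_eq_of_lt (by omega)] at this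
    exact Fin.ext this
  · rw [Subgroup.orderOf_coe, MulEquiv.orderOf_eq]
    exact DihedralGroup.orderOf_sr _
  · intro h
    have : e.symm (.sr ((i : ℕ) : ZMod m)) = ⟨x, Subgroup.mem_centralizer_singleton_iff.mpr rfl⟩ := Subtype.ext h
    have := congrArg e this
    rw [e.apply_symm_apply, hex] at this
    simp at this
  · exact Subgroup.mem_centralizer_singleton_iff.mp (e.symm _).2

/-- An involution alone in its intersection. -/
theorem not_binary_invol (hodd : Fintype.card F % 2 = 1) (h7 : 7 ≤ Fintype.card F) {x : PSL2} (hx : orderOf x = 2)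
    (hM : ∀ w ∈ Nx H x, w = 1 ∨ w = x) : ¬ Binary H := by
  obtain ⟨f, -, hf⟩ := exists_commuting_invol hodd h7 hx
  obtain ⟨hy, hyx, hcomm⟩ := hf 0
  set y := f 0
  obtain ⟨hx2, hx1⟩ := orderOf_eq_two_iff'.mp hx
  obtain ⟨hy2, hy1⟩ := orderOf_eq_two_iff'.mp hy
  have hxinv : x⁻¹ = x := inv_eq_of_mul_eq_one_right hx2
  have hz2 : y * x * (y * x) = 1 := by
    calc y * x * (y * x) = y * (x * y) * x := by group
      _ = y * (y * x) * x := by rw [hcomm]
      _ = (y * y) * (x * x) := by group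
      _ = 1 := by rw [hy2, hx2, mul_one]
  have hz1 : y * x ≠ 1 := fun h => hyx ((eq_inv_of_mul_eq_one_left h).trans hxinv)
  have key : ∀ v : PSL2, orderOf v = 2 → ∀ w ∈ Nx H v, w = 1 ∨ w = v := by
    intro v hv w hw
    obtain ⟨c, hc⟩ := isConj_iff.mp (isConj_invol hodd hx hv)
    rw [← hc, mem_Nx_conj] at hw
    rcases hM _ hw with h | h
    · left
      have := congrArg (fun t => c * t * c⁻¹) h
      simpa [mul_assoc] using this
    · right
      rw [← hc, ← h]
      group
  refine not_binary_of_triangle (x := x) (y := y) (z := y * x) (by rw [← mul_assoc, hy2, one_mul]) ?_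
  intro g hgx hgy hgz
  rcases hM g hgx with rfl | rfl
  · rw [mul_one, hxinv] at hgz
    rcases key _ (orderOf_eq_two_iff'.mpr ⟨hz2, hz1⟩) _ hgz with h | h
    · exact hx1 h
    · exact hy1 (mul_eq_right.mp h.symm)
  · rcases key y hy _ hgy with h | h
    · exact hx1 h
    · exact hyx h.symm

/-- A fours group. -/
theorem not_binary_klein (hodd : Fintype.card F % 2 = 1) (h7 : 7 ≤ Fintype.card F) (hH : IsKleinFour H) :
    ¬ Binary H := by
  haveI := hH
  haveI : Finite H := Nat.finite_of_card_ne_zero (by rw [IsKleinFour.card_four (G := H)]; norm_num)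
  haveI : Nontrivial H := Finite.one_lt_card_iff_nontrivial.mp (by rw [IsKleinFour.card_four (G := H)]; norm_num)
  obtain ⟨⟨x, hxH⟩, hxne⟩ := exists_ne (1 : H)
  have hx1 : x ≠ 1 := fun h => hxne (Subtype.ext h)
  have hx : orderOf x = 2 :=
    orderOf_eq_two_iff'.mpr ⟨Cfsg.Agent.Lib.Geometry.Dickson.four_sq hxH, hx1⟩
  by_cases hM : ∀ w ∈ Nx H x, w = 1 ∨ w = x
  · exact not_binary_invol hodd h7 hx hM
  push Not at hM
  obtain ⟨w, hw, hw1, hwx⟩ := hM
  -- every conjugate through `x` is equal to `H`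
  have hHM : H ≤ Nx H x := by
    intro h hh
    rw [Cfsg.Agent.Lib.Geometry.Dickson.four_eq hxH (Nx_le hxH hw) hx1 hw1 (Ne.symm hwx)] at hh
    rcases hh with rfl | rfl | rfl | rfl
    · exact Subgroup.one_mem _
    · exact self_mem_Nx _
    · exact hw
    · exact Subgroup.mul_mem _ (self_mem_Nx _) hw
  have hNx : Nx H x = H := le_antisymm (Nx_le hxH) hHM
  have hcard : ∀ v : PSL2, orderOf v = 2 → Nat.card (Nx H v) = 4 := by
    intro v hv
    obtain ⟨c, hc⟩ := isConj_iff.mp (isConj_invol hodd hx hv)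
    rw [← IsKleinFour.card_four (G := H)]
    conv_rhs => rw [← hNx]
    refine Nat.card_congr ((Equiv.subtypeEquiv (MulAut.conj c).toEquiv fun a => ?_).symm)
    rw [← hc]
    show a ∈ Nx H x ↔ c * a * c⁻¹ ∈ Nx H (c * x * c⁻¹)
    rw [mem_Nx_conj, show c⁻¹ * (c * a * c⁻¹) * c = a by group]
  have hord : ∀ v : PSL2, orderOf v = 2 → ∀ u ∈ Nx H v, u ≠ 1 → Nx H u = Nx H v := by
    intro v hv u hu hu1
    obtain ⟨c, hc⟩ := isConj_iff.mp (isConj_invol hodd hx hv)
    have hu2 : orderOf u = 2 := by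
      rw [← hc, mem_Nx_conj, hNx] at hu
      refine orderOf_eq_two_iff'.mpr ⟨?_, hu1⟩
      have := Cfsg.Agent.Lib.Geometry.Dickson.four_sq hu
      calc u * u = c * ((c⁻¹ * u * c) * (c⁻¹ * u * c)) * c⁻¹ := by group
        _ = 1 := by rw [this]; group
    haveI : Finite (Nx H v) := Nat.finite_of_card_ne_zero (by rw [hcard v hv]; norm_num)
    exact Subgroup.eq_of_le_of_card_ge (Nx_mono hu) (by rw [hcard v hv, hcard u hu2])
  -- a commuting involution outside `H`
  obtain ⟨f, hfi, hf⟩ := exists_commuting_invol hodd h7 hx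
  obtain ⟨i, hi⟩ : ∃ i, f i ∉ H := by
    by_contra hcon
    push Not at hcon
    haveI := Fintype.ofFinite H
    let g : Option (Option (Fin 3)) → H
      | none => 1
      | some none => ⟨x, hxH⟩
      | some (some i) => ⟨f i, hcon i⟩
    have hg : Function.Injective g := by
      rintro (_ | _ | a) (_ | _ | b) h <;> simp only [g, Subtype.ext_iff, OneMemClass.coe_one] at h
      · rfl
      · exact absurd h.symm hx1
      · exact absurd h.symm (orderOf_eq_two_iff'.mp (hf b).1).2
      · exact absurd h hx1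
      · rfl
      · exact absurd h.symm (hf b).2.1
      · exact absurd h (orderOf_eq_two_iff'.mp (hf a).1).2
      · exact absurd h (hf a).2.1
      · rw [hfi h]
    have := Fintype.card_le_of_injective g hg
    rw [← Nat.card_eq_fintype_card (α := H), IsKleinFour.card_four (G := H)] at this
    simp at this
  obtain ⟨hy, hyx, hcomm⟩ := hf i
  set y := f i
  obtain ⟨hx2, -⟩ := orderOf_eq_two_iff'.mp hx
  obtain ⟨hy2, hy1⟩ := orderOf_eq_two_iff'.mp hy
  have hxinv : x⁻¹ = x := inv_eq_of_mul_eq_one_right hx2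
  have hz2 : y * x * (y * x) = 1 := by
    calc y * x * (y * x) = y * (x * y) * x := by group
      _ = y * (y * x) * x := by rw [hcomm]
      _ = (y * y) * (x * x) := by group
      _ = 1 := by rw [hy2, hx2, mul_one]
  have hz1 : y * x ≠ 1 := fun h => hyx ((eq_inv_of_mul_eq_one_left h).trans hxinv)
  have hz : orderOf (y * x) = 2 := orderOf_eq_two_iff'.mpr ⟨hz2, hz1⟩
  refine not_binary_of_triangle (x := x) (y := y) (z := y * x) (by rw [← mul_assoc, hy2, one_mul]) ?_
  intro g hgx hgy hgz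
  by_cases hg : g = 1
  · rw [hg, mul_one, hxinv] at hgz
    have e := hord _ hz x hgz hx1
    refine hi ?_
    have hzH : y * x ∈ H := by rw [← hNx, e]; exact self_mem_Nx _
    have := H.mul_mem hzH hxH
    rwa [mul_assoc, hx2, mul_one] at this
  · refine hi ?_
    rw [← hNx, ← hord x hx g hgx hg, hord y hy g hgy hg]
    exact self_mem_Nx _

/-- Large `q`: few involutions of `H` centralise `x`. -/
theorem not_binary_few (hodd : Fintype.card F % 2 = 1) (h11 : 11 ≤ Fintype.card F) {x : PSL2} (hxH : x ∈ H)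
    (hx : orderOf x = 2)
    (hA : Nat.card {h : H // h ≠ 1 ∧ h * h = 1 ∧ (h : PSL2) * x = x * h} ≤ 3)
    (hB : ∀ w ∈ Nx H x, w ≠ 1 → w ≠ x → ∃ u ∈ Nx H x, u * u = 1 ∧ u ≠ 1 ∧ u ≠ x ∧ u * x = x * u) :
    ¬ Binary H := by
  refine not_binary_invol hodd (by omega) hx fun w hw => ?_
  by_contra hcon
  push Not at hcon
  obtain ⟨u, hu, hu2, hu1, hux, huc⟩ := hB w hw hcon.1 hcon.2
  obtain ⟨m, e, hm, h4, hmq, hex⟩ := refl_data hodd (by omega) hx
  haveI : NeZero m := ⟨by omega⟩
  obtain ⟨hx2, hx1⟩ := orderOf_eq_two_iff'.mp hx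
  set u' : Subgroup.centralizer ({x} : Set PSL2) := ⟨u, Subgroup.mem_centralizer_singleton_iff.mpr huc⟩
  obtain ⟨j, hj⟩ : ∃ j, e u' = .sr j := by
    rcases hd : e u' with a | a
    · exfalso
      have h2 : e u' * e u' = 1 := by rw [← map_mul, ← e.map_one]; exact congrArg e (Subtype.ext hu2)
      rw [hd, DihedralGroup.r_mul_r, DihedralGroup.one_def, DihedralGroup.r.injEq] at h2
      rcases zmod_double_eq_zero h2 with rfl | rfl
      · exact hu1 (congrArg Subtype.val (e.injective (hd.trans e.map_one.symm)))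
      · exact hux (congrArg Subtype.val (e.injective (hd.trans hex.symm)))
    · exact ⟨a, rfl⟩
  let c : Fin 3 → PSL2 := fun i => (e.symm (.sr (j - 2 * ((i : ℕ) : ZMod m)))).1
  have hc : ∀ i, c i ∈ Nx H x := fun i => by
    have hτ := Subgroup.mem_centralizer_singleton_iff.mp (e.symm (.r ((i : ℕ) : ZMod m))).2
    have h := conj_mem_Nx' hτ hu
    have : e.symm (.sr (j - 2 * ((i : ℕ) : ZMod m))) =
        e.symm (.r ((i : ℕ) : ZMod m)) * u' * (e.symm (.r ((i : ℕ) : ZMod m)))⁻¹ := by
      apply e.injective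
      rw [map_mul, map_mul, map_inv, e.apply_symm_apply, e.apply_symm_apply, hj, DihedralGroup.inv_r,
        DihedralGroup.r_mul_sr, DihedralGroup.sr_mul_r, DihedralGroup.sr.injEq]
      ring
    show (e.symm _).1 ∈ _
    rw [this, Subgroup.coe_mul, Subgroup.coe_mul, Subgroup.coe_inv]
    exact h
  have hci : ∀ i, c i ≠ 1 ∧ c i * c i = 1 ∧ c i * x = x * c i ∧ c i ≠ x := fun i => by
    have ho : orderOf (c i) = 2 := by
      rw [Subgroup.orderOf_coe, MulEquiv.orderOf_eq]
      exact DihedralGroup.orderOf_sr _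
    refine ⟨(orderOf_eq_two_iff'.mp ho).2, (orderOf_eq_two_iff'.mp ho).1,
      Subgroup.mem_centralizer_singleton_iff.mp (e.symm _).2, fun h => ?_⟩
    have h' : e.symm (.sr (j - 2 * ((i : ℕ) : ZMod m))) = ⟨x, Subgroup.mem_centralizer_singleton_iff.mpr rfl⟩ :=
      Subtype.ext h
    have := congrArg e h'
    rw [e.apply_symm_apply, hex] at this
    simp at this
  haveI := Fintype.ofFinite {h : H // h ≠ 1 ∧ h * h = 1 ∧ (h : PSL2) * x = x * h}
  let g : Option (Fin 3) → {h : H // h ≠ 1 ∧ h * h = 1 ∧ (h : PSL2) * x = x * h}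
    | none => ⟨⟨x, hxH⟩, fun h => hx1 (congrArg Subtype.val h), Subtype.ext hx2, rfl⟩
    | some i => ⟨⟨c i, Nx_le hxH (hc i)⟩, fun h => (hci i).1 (congrArg Subtype.val h), Subtype.ext (hci i).2.1,
        (hci i).2.2.1⟩
  have hg : Function.Injective g := by
    rintro (_ | a) (_ | b) h
    · rfl
    · exact absurd (congrArg (fun t => ((t : {h : H // _}) : H).1) h).symm (hci b).2.2.2
    · exact absurd (congrArg (fun t => ((t : {h : H // _}) : H).1) h) (hci a).2.2.2
    · have h' := e.symm.injective (Subtype.ext (congrArg (fun t => ((t : {h : H // _}) : H).1) h))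
      rw [DihedralGroup.sr.injEq, sub_right_inj] at h'
      have h'' : ((2 * (a : ℕ) : ℕ) : ZMod m) = ((2 * (b : ℕ) : ℕ) : ZMod m) := by push_cast; exact h'
      rw [ZMod.natCast_eq_natCast_iff', Nat.mod_eq_of_lt (by omega), Nat.mod_eq_of_lt (by omega)] at h''
      exact congrArg some (Fin.ext (by omega))
  have := Nat.card_le_card_of_injective g hg
  rw [Nat.card_eq_fintype_card (α := Option (Fin 3))] at this
  simp only [Fintype.card_option, Fintype.card_fin] at this
  omega

/-- Dihedral subgroups of order prime to the characteristic. -/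
theorem not_binary_dihedral (hodd : Fintype.card F % 2 = 1) (h7 : 7 ≤ Fintype.card F) {k : ℕ} (hk : 3 ≤ k)
    (e : H ≃* DihedralGroup k) (hp : ∀ W : SL2, toPSL W ∈ H → toPSL W ≠ 1 → tr W ^ 2 ≠ 4)
    (hsmall : Fintype.card F < 11 → ¬ Odd k → Nat.card H = Fintype.card F + 1 ∨ Nat.card H + 1 = Fintype.card F) :
    ¬ Binary H := by
  haveI : NeZero k := ⟨by omega⟩
  set x : H := e.symm (.sr 0) with hxdef
  have hex : e x = .sr 0 := e.apply_symm_apply _
  have hx : orderOf (x : PSL2) = 2 := by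
    rw [Subgroup.orderOf_coe, hxdef, MulEquiv.orderOf_eq]; exact DihedralGroup.orderOf_sr _
  obtain ⟨hx2, hx1⟩ := orderOf_eq_two_iff'.mp hx
  -- the intersection has exponent two
  have hexp : ∀ w ∈ Nx H (x : PSL2), w * w = 1 := by
    intro w hw
    by_contra hw2
    have hwH := Nx_le x.2 hw
    have hne : ∀ a, e ⟨w, hwH⟩ ≠ .sr a := fun a ha => hw2 (by
      have : e (⟨w, hwH⟩ * ⟨w, hwH⟩) = e 1 := by rw [map_mul, ha, DihedralGroup.sr_mul_self, map_one]
      exact congrArg Subtype.val (e.injective this))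
    obtain ⟨i, hi⟩ : ∃ i, e ⟨w, hwH⟩ = .r i := by
      rcases hd : e ⟨w, hwH⟩ with a | a
      · exact ⟨a, rfl⟩
      · exact absurd hd (hne a)
    have hnc : (x : PSL2) * w ≠ w * x := fun hc => hw2 (by
      have : e (x * ⟨w, hwH⟩) = e (⟨w, hwH⟩ * x) := congrArg e (Subtype.ext hc)
      rw [map_mul, map_mul, hex, hi, DihedralGroup.sr_mul_r, DihedralGroup.r_mul_sr, DihedralGroup.sr.injEq] at this
      have h2 : e (⟨w, hwH⟩ * ⟨w, hwH⟩) = e 1 := by
        rw [map_mul, hi, DihedralGroup.r_mul_r, map_one, DihedralGroup.one_def, DihedralGroup.r.injEq]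
        linear_combination this
      exact congrArg Subtype.val (e.injective h2))
    obtain ⟨m, d, hm, h4, -, hdx⟩ := refl_data hodd h7 hx
    haveI : NeZero m := ⟨by omega⟩
    set τ := d.symm (.r 1)
    have hτx := Subgroup.mem_centralizer_singleton_iff.mp τ.2
    set w' := (τ : PSL2) * w * (τ : PSL2)⁻¹ with hw'
    have hw'H : w' ∈ H := Nx_le x.2 (conj_mem_Nx' hτx hw)
    obtain ⟨i', hi'⟩ : ∃ i', e ⟨w', hw'H⟩ = .r i' := by
      rcases hd : e ⟨w', hw'H⟩ with a | a
      · exact ⟨a, rfl⟩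
      · exfalso
        have : e (⟨w', hw'H⟩ * ⟨w', hw'H⟩) = e 1 := by rw [map_mul, hd, DihedralGroup.sr_mul_self, map_one]
        have h1 : w' * w' = 1 := congrArg Subtype.val (e.injective this)
        refine hw2 ?_
        calc w * w = (τ : PSL2)⁻¹ * (w' * w') * τ := by rw [hw']; group
          _ = 1 := by rw [h1]; group
    have hcomm : w' * w = w * w' := congrArg Subtype.val (e.injective (show e (⟨w', hw'H⟩ * ⟨w, hwH⟩) =
        e (⟨w, hwH⟩ * ⟨w', hw'H⟩) by rw [map_mul, map_mul, hi, hi', DihedralGroup.r_mul_r, DihedralGroup.r_mul_r,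
          add_comm]))
    obtain ⟨W, rfl⟩ := toPSL_surjective w
    obtain ⟨T, hT⟩ := toPSL_surjective (τ : PSL2)
    have hW0 : tr W ≠ 0 := fun h => hw2 (sq_eq_one_of_tr_zero h)
    have hW1 : toPSL W ≠ 1 := fun h => hw2 (by rw [h, one_mul])
    have hW4 := hp W hwH hW1
    have ew' : w' = toPSL (T * W * T⁻¹) := by rw [hw', map_mul, map_mul, map_inv, hT]
    rw [ew'] at hcomm
    have hc := comm_of_psl hW0 hcomm
    -- an element centralising both
    have finish : ∀ σ : PSL2, σ * σ ≠ 1 → σ * x = x * σ → σ * toPSL W = toPSL W * σ → False := by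
      intro σ hσ2 hσx hσw
      obtain ⟨S, rfl⟩ := toPSL_surjective σ
      have hS0 : tr S ≠ 0 := fun h => hσ2 (sq_eq_one_of_tr_zero h)
      have hS1 : S ∉ Subgroup.center SL2 := fun h => hσ2 (by
        rw [toPSL_eq_one.mpr (mem_center_iff.mp h), one_mul])
      obtain ⟨X, hX⟩ := toPSL_surjective (x : PSL2)
      rw [← hX] at hσx hnc
      have h1 := comm_of_psl hS0 hσx.symm
      have h2 := comm_of_psl hS0 hσw.symm
      exact hnc (by
        rw [← map_mul, ← map_mul, Cfsg.Agent.Lib.Geometry.Dickson.centralizer_comm hS1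
          (mem_centralizer_iff.mpr h1) (mem_centralizer_iff.mpr h2)])
    have hτ2 : τ * τ = d.symm (.r 2) := by
      apply d.injective
      rw [map_mul, d.apply_symm_apply, d.apply_symm_apply, DihedralGroup.r_mul_r, one_add_one_eq_two]
    rcases eq_or_eq_inv_of_tr (notMem_center hW4) hW4 (mem_centralizer_iff.mpr hc) (tr_conj W T) with h | h
    · refine finish (τ : PSL2) (fun h1 => ?_) hτx ?_
      · have : τ * τ = 1 := Subtype.ext h1
        rw [hτ2] at this
        have := congrArg d this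
        rw [d.apply_symm_apply, map_one, DihedralGroup.one_def, DihedralGroup.r.injEq] at this
        have h2' : ((2 : ℕ) : ZMod m) = 0 := by exact_mod_cast this
        rw [ZMod.natCast_eq_zero_iff] at h2'
        have := Nat.le_of_dvd two_pos h2'
        omega
      · rw [← hT, ← map_mul, ← map_mul, mul_inv_eq_iff_eq_mul.mp h]
    · have hsq : ((τ * τ : Subgroup.centralizer ({(x : PSL2)} : Set PSL2)) : PSL2) * toPSL W =
          toPSL W * ((τ * τ : Subgroup.centralizer ({(x : PSL2)} : Set PSL2)) : PSL2) := by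
        rw [Subgroup.coe_mul, ← hT, ← map_mul, ← map_mul, ← map_mul]
        congr 1
        have : T * (T * W * T⁻¹) * T⁻¹ = W := by
          rw [h]
          calc T * W⁻¹ * T⁻¹ = (T * W * T⁻¹)⁻¹ := by group
            _ = W := by rw [h, inv_inv]
        calc T * T * W = (T * (T * W * T⁻¹) * T⁻¹) * (T * T) := by group
          _ = W * (T * T) := by rw [this]
      rcases eq_or_ne m 4 with rfl | hm4
      · have : τ * τ = ⟨x, Subgroup.mem_centralizer_singleton_iff.mpr rfl⟩ := by
          apply d.injective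
          rw [hτ2, d.apply_symm_apply, hdx]
          rfl
        rw [this] at hsq
        exact hnc hsq
      · refine finish _ (fun h1 => ?_) (Subgroup.mem_centralizer_singleton_iff.mp (τ * τ).2) hsq
        have : (τ * τ) * (τ * τ) = 1 := Subtype.ext h1
        rw [hτ2, ← map_mul] at this
        have := congrArg d this
        rw [d.apply_symm_apply, map_one, DihedralGroup.r_mul_r, DihedralGroup.one_def, DihedralGroup.r.injEq] at this
        have h4' : ((4 : ℕ) : ZMod m) = 0 := by push_cast; linear_combination this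
        rw [ZMod.natCast_eq_zero_iff] at h4'
        have := Nat.le_of_dvd (by norm_num) h4'
        omega
  have hcomm : ∀ w ∈ Nx H (x : PSL2), w * x = x * w := by
    intro w hw
    have h := hexp _ (Subgroup.mul_mem _ hw (self_mem_Nx _))
    calc w * (x : PSL2) = (w * x) * ((w * x) * (w * x)) := by rw [h, mul_one]
      _ = (w * x) * (w * x) * (w * x) := by group
      _ = w * x := by rw [h, one_mul]
      _ = (w * x)⁻¹ := eq_inv_of_mul_eq_one_left h
      _ = (x : PSL2)⁻¹ * w⁻¹ := mul_inv_rev _ _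
      _ = x * w := by rw [inv_eq_of_mul_eq_one_right hx2, inv_eq_of_mul_eq_one_right (hexp w hw)]
  -- the involutions of `H` commuting with `x`
  have hset : ∀ h : H, h ≠ 1 → h * h = 1 → h * x = x * h →
      e h = .sr 0 ∨ ¬ Odd k ∧ (e h = .r ((k / 2 : ℕ) : ZMod k) ∨ e h = .sr ((k / 2 : ℕ) : ZMod k)) := by
    intro h h1 h2 hc
    have hc' := congrArg e hc
    rw [map_mul, map_mul, hex] at hc'
    have hev : ((k / 2 : ℕ) : ZMod k) + (k / 2 : ℕ) = 0 → ¬ Odd k := fun h0 ho => by
      rw [← Nat.cast_add, ZMod.natCast_eq_zero_iff] at h0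
      obtain ⟨j, rfl⟩ := ho
      rcases Nat.eq_zero_of_dvd_of_lt h0 (by omega) with h0'
      omega
    rcases hd : e h with a | a
    · rw [hd, DihedralGroup.r_mul_sr, DihedralGroup.sr_mul_r, DihedralGroup.sr.injEq] at hc'
      have h0 : a + a = 0 := by linear_combination -hc'
      rcases zmod_double_eq_zero h0 with rfl | rfl
      · exact absurd (e.injective (hd.trans (e.map_one.trans DihedralGroup.one_def).symm)) h1
      · exact Or.inr ⟨hev h0, Or.inl rfl⟩
    · rw [hd, DihedralGroup.sr_mul_sr, DihedralGroup.sr_mul_sr, DihedralGroup.r.injEq] at hc'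
      have h0 : a + a = 0 := by linear_combination -hc'
      rcases zmod_double_eq_zero h0 with rfl | rfl
      · exact Or.inl rfl
      · exact Or.inr ⟨hev h0, Or.inr rfl⟩
  by_cases hko : Odd k
  · refine not_binary_invol hodd h7 hx fun w hw => ?_
    by_contra hcon
    push Not at hcon
    rcases hset ⟨w, Nx_le x.2 hw⟩ (fun h => hcon.1 (congrArg Subtype.val h)) (Subtype.ext (hexp w hw))
      (Subtype.ext (hcomm w hw)) with h | h
    · exact hcon.2 (congrArg Subtype.val (e.injective (h.trans hex.symm)))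
    · exact h.1 hko
  by_cases h11 : 11 ≤ Fintype.card F
  · refine not_binary_few hodd h11 x.2 hx ?_ fun w hw h1 hwx => ⟨w, hw, hexp w hw, h1, hwx, hcomm w hw⟩
    classical
    refine (Nat.card_le_card_of_injective (β := ({.sr 0, .r ((k / 2 : ℕ) : ZMod k), .sr ((k / 2 : ℕ) : ZMod k)} :
      Finset (DihedralGroup k))) (fun h => ⟨e h.1, ?_⟩) (fun a b h => Subtype.ext (e.injective
        (congrArg Subtype.val h)))).trans ?_
    · rcases hset h.1 h.2.1 h.2.2.1 (Subtype.ext h.2.2.2) with r | ⟨-, r | r⟩ <;> simp [r]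
    · rw [Nat.card_eq_fintype_card, Fintype.card_coe]
      exact Finset.card_le_three
  -- `H` is the centraliser of an involution
  have hcardH := hsmall (by omega) hko
  have hkev : k % 2 = 0 := by simpa [Nat.odd_iff] using hko
  set c : H := e.symm (.r ((k / 2 : ℕ) : ZMod k))
  have hk2 : ((k / 2 : ℕ) : ZMod k) + (k / 2 : ℕ) = 0 := half_add_half (Nat.dvd_of_mod_eq_zero hkev)
  have hc : orderOf (c : PSL2) = 2 := by
    rw [Subgroup.orderOf_coe, MulEquiv.orderOf_eq, orderOf_eq_two_iff', DihedralGroup.r_mul_r, hk2]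
    refine ⟨DihedralGroup.one_def.symm, fun h => half_ne_zero (Nat.dvd_of_mod_eq_zero hkev) ?_⟩
    rw [DihedralGroup.one_def, DihedralGroup.r.injEq] at h
    exact h
  have hHc : H ≤ Subgroup.centralizer ({(c : PSL2)} : Set PSL2) := fun h hh => by
    rw [Subgroup.mem_centralizer_singleton_iff]
    refine congrArg Subtype.val (e.injective (show e (⟨h, hh⟩ * c) = e (c * ⟨h, hh⟩) from ?_))
    rw [map_mul, map_mul, e.apply_symm_apply]
    rcases e ⟨h, hh⟩ with a | a
    · rw [DihedralGroup.r_mul_r, DihedralGroup.r_mul_r, add_comm]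
    · rw [DihedralGroup.sr_mul_r, DihedralGroup.r_mul_sr, DihedralGroup.sr.injEq]
      linear_combination hk2
  obtain ⟨mc, ec, hmc, h4c, hmcq, -⟩ := refl_data hodd h7 hc
  haveI : NeZero mc := ⟨by omega⟩
  haveI : Finite (Subgroup.centralizer ({(c : PSL2)} : Set PSL2)) := Finite.of_equiv _ ec.symm.toEquiv
  have hHeq : H = Subgroup.centralizer ({(c : PSL2)} : Set PSL2) := by
    refine Subgroup.eq_of_le_of_card_ge hHc ?_
    have hd := Subgroup.card_dvd_of_le hHc
    rw [Nat.card_congr ec.toEquiv, DihedralGroup.nat_card] at hd ⊢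
    by_contra hlt
    obtain ⟨r, hr⟩ := hd
    rcases r with _ | _ | r
    · omega
    · omega
    · have : 2 * mc = Nat.card H * r + 2 * Nat.card H := by rw [hr]; ring
      omega
  refine not_binary_invol hodd h7 hx fun w hw => ?_
  obtain ⟨m, d, hm, h4, -, hdx⟩ := refl_data hodd h7 hx
  haveI : NeZero m := ⟨by omega⟩
  set w₀ : Subgroup.centralizer ({(x : PSL2)} : Set PSL2) :=
    ⟨w, Subgroup.mem_centralizer_singleton_iff.mpr (hcomm w hw)⟩
  have hcr : ∀ a, d w₀ * .sr a = .sr a * d w₀ := fun a => by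
    set r := d.symm (.sr a)
    have hr : orderOf (r : PSL2) = 2 := by
      rw [Subgroup.orderOf_coe, MulEquiv.orderOf_eq]; exact DihedralGroup.orderOf_sr _
    obtain ⟨g, hg⟩ := isConj_iff.mp (isConj_invol hodd hc hr)
    have hxg : g⁻¹ * (x : PSL2) * g ∈ H := by
      refine hHeq.ge (Subgroup.mem_centralizer_singleton_iff.mpr ?_)
      have hxr := Subgroup.mem_centralizer_singleton_iff.mp r.2
      rw [← hg] at hxr
      calc g⁻¹ * (x : PSL2) * g * c = g⁻¹ * ((x : PSL2) * (g * c * g⁻¹)) * g := by group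
        _ = g⁻¹ * (g * c * g⁻¹ * x) * g := by rw [← hxr]
        _ = c * (g⁻¹ * (x : PSL2) * g) := by group
    have hwg := hw g hxg
    replace hwg := Subgroup.mem_centralizer_singleton_iff.mp (hHeq.le hwg)
    have : w₀ * r = r * w₀ := Subtype.ext (by
      show w * (r : PSL2) = (r : PSL2) * w
      rw [← hg]
      calc w * (g * c * g⁻¹) = g * (g⁻¹ * w * g * c) * g⁻¹ := by group
        _ = g * (c * (g⁻¹ * w * g)) * g⁻¹ := by rw [hwg]
        _ = g * c * g⁻¹ * w := by group)
    have := congrArg d this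
    rwa [map_mul, map_mul, d.apply_symm_apply] at this
  rcases hd : d w₀ with a | a
  · have h2 : d (w₀ * w₀) = d 1 := congrArg d (Subtype.ext (hexp w hw))
    rw [map_mul, hd, DihedralGroup.r_mul_r, map_one, DihedralGroup.one_def, DihedralGroup.r.injEq] at h2
    rcases zmod_double_eq_zero h2 with rfl | rfl
    · exact Or.inl (congrArg Subtype.val (d.injective (hd.trans (d.map_one.trans DihedralGroup.one_def).symm)))
    · exact Or.inr (congrArg Subtype.val (d.injective (hd.trans hdx.symm)))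
  · exfalso
    have h := hcr (a + 1)
    rw [hd, DihedralGroup.sr_mul_sr, DihedralGroup.sr_mul_sr, DihedralGroup.r.injEq] at h
    have h2' : ((2 : ℕ) : ZMod m) = 0 := by push_cast; linear_combination h
    rw [ZMod.natCast_eq_zero_iff] at h2'
    have := Nat.le_of_dvd two_pos h2'
    omega

/-- An alternating group of degree four. -/
theorem not_binary_altFour (hodd : Fintype.card F % 2 = 1) (h11 : 11 ≤ Fintype.card F)
    (e : H ≃* alternatingGroup (Fin 4)) : ¬ Binary H := by

  obtain ⟨x₀, hx₀⟩ : ∃ x : alternatingGroup (Fin 4), x * x = 1 ∧ x ≠ 1 := by decide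
  set x : H := e.symm x₀
  have hex : e x = x₀ := e.apply_symm_apply _
  have hx : orderOf (x : PSL2) = 2 := by
    rw [Subgroup.orderOf_coe, MulEquiv.orderOf_eq]
    exact orderOf_eq_two_iff'.mpr hx₀
  have key : ∀ a b : alternatingGroup (Fin 4), b * b = 1 → b ≠ 1 → a ≠ 1 → a ≠ b →
      (a * a = 1 ∧ a * b = b * a) ∨ (a * b * a⁻¹ ≠ b ∧ a * b * a⁻¹ * b = b * (a * b * a⁻¹)) := by decide +kernel
  have key2 : ∀ b : alternatingGroup (Fin 4), b * b = 1 → b ≠ 1 →
      (Finset.univ.filter fun a : alternatingGroup (Fin 4) => a ≠ 1 ∧ a * a = 1 ∧ a * b = b * a).card ≤ 3 := by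
    decide +kernel
  refine not_binary_few hodd h11 x.2 hx ?_ fun w hw h1 hwx => ?_
  · refine le_trans ?_ (key2 x₀ hx₀.1 hx₀.2)
    rw [← Fintype.card_coe, ← Nat.card_eq_fintype_card]
    refine Nat.card_le_card_of_injective (fun h => ⟨e h.1, Finset.mem_filter.mpr ⟨Finset.mem_univ _, ?_, ?_, ?_⟩⟩)
      (fun a b h => Subtype.ext (e.injective (congrArg Subtype.val h)))
    · exact fun h' => h.2.1 (e.injective (h'.trans e.map_one.symm))
    · rw [← map_mul, h.2.2.1, map_one]
    · rw [← hex, ← map_mul, ← map_mul]; exact congrArg e (Subtype.ext h.2.2.2)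
  · set w' : H := ⟨w, Nx_le x.2 hw⟩
    have hw1 : e w' ≠ 1 := fun h => h1 (congrArg Subtype.val (e.injective (h.trans e.map_one.symm)))
    have hwx' : e w' ≠ x₀ := fun h => hwx (congrArg Subtype.val (e.injective (h.trans hex.symm)))
    obtain ⟨hx2, hx1⟩ := orderOf_eq_two_iff'.mp hx
    rcases key (e w') x₀ hx₀.1 hx₀.2 hw1 hwx' with ⟨a, b⟩ | ⟨a, b⟩
    · refine ⟨w, hw, ?_, h1, hwx, ?_⟩
      · rw [← map_mul, ← e.map_one] at a; exact congrArg Subtype.val (e.injective a)
      · rw [← hex, ← map_mul, ← map_mul] at b; exact congrArg Subtype.val (e.injective b)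
    · rw [← hex, ← map_inv, ← map_mul, ← map_mul] at a b
      refine ⟨w * x * w⁻¹, Subgroup.mul_mem _ (Subgroup.mul_mem _ hw (self_mem_Nx _)) (Subgroup.inv_mem _ hw),
        by rw [show w * (x : PSL2) * w⁻¹ * (w * x * w⁻¹) = w * ((x : PSL2) * x) * w⁻¹ by group, hx2, mul_one,
          mul_inv_cancel], fun h => hx1 (conj_eq_one_iff.mp h),
        fun h => a (congrArg e (Subtype.ext h)), ?_⟩
      rw [← map_mul, ← map_mul] at b
      exact congrArg Subtype.val (e.injective b)

end Cfsg.Agent.Lib.BinaryPSL
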