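import Cfsg.Agent.Lib.BinaryPSL.Three

/-!
Binary coset actions of `PSL₂(q)`: the classification.
-/

set_option autoImplicit false

namespace Cfsg.Agent.Lib.BinaryPSL

open Matrix
open scoped MatrixGroups
open Cfsg.Agent.Lib.SL2Trace (tr tr_eq det_eq toPSL toPSL_surjective toPSL_eq toPSL_eq_one sq_eq mem_center_iff)
open Cfsg.Agent.Lib.Geometry.Dickson (sl_ext upper upper_notMem_center IsSplit exists_sylow_cell cell
  mem_centralizer_iff subType SubType tr_upper)

variable {F : Type*} [Field F] [Fintype F]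

local notation "SL2" => Matrix.SpecialLinearGroup (Fin 2) F
local notation "M2" => Matrix (Fin 2) (Fin 2) F
local notation "PSL2" => Matrix.ProjectiveSpecialLinearGroup (Fin 2) F

variable {H : Subgroup (Matrix.ProjectiveSpecialLinearGroup (Fin 2) F)}

theorem card_odd_of_ne_two {p : ℕ} [Fact p.Prime] [CharP F p] (hp : p ≠ 2) : Fintype.card F % 2 = 1 := by
  obtain ⟨n, hpr, hn⟩ := FiniteField.card F p
  rw [hn]
  exact Nat.odd_iff.mp ((hpr.odd_of_ne_two hp).pow)

/-- A cyclic stabiliser of order prime to the characteristic. -/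
theorem cyclic_case (h4 : 4 ≤ Fintype.card F) (h5 : Fintype.card F ≠ 5) (p : ℕ) [Fact p.Prime] [CharP F p]
    (hp : ¬ p ∣ Nat.card H) [IsCyclic H] (hbin : Binary H) :
    H = ⊥ ∨ ((∃ a : ℕ, Odd a ∧ Fintype.card F = 2 ^ a) ∧ Nat.card H = 3) := by
  classical
  rcases eq_or_ne H ⊥ with hbot | hbot
  · exact Or.inl hbot
  haveI : Nontrivial H := (Subgroup.nontrivial_iff_ne_bot H).mpr hbot
  letI : CommGroup H := IsCyclic.commGroup
  -- an element of `H` with lift `X` of non-zero trace obstructs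
  have semi : ∀ X : SL2, toPSL X ∈ H → toPSL X ≠ 1 → tr X ≠ 0 → ((2 : F) ≠ 0 ∨ tr X ≠ 1 ∨ IsSplit X) → False := by
    intro X hX h1 h0 hex
    refine not_binary_semisimple h0 (tr_sq_ne_four p hp hX h1) hex (fun w hw => ?_) hbin
    rw [Subgroup.mem_centralizer_singleton_iff]
    exact congrArg Subtype.val (mul_comm (⟨w, Nx_le hX hw⟩ : H) ⟨_, hX⟩)
  obtain ⟨g, hg⟩ := IsCyclic.exists_generator (α := H)
  have hgne : g ≠ 1 := fun h => by
    obtain ⟨x, hx⟩ := exists_ne (1 : H)
    have := hg x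
    rw [h, Subgroup.zpowers_one_eq_bot, Subgroup.mem_bot] at this
    exact hx this
  have hgord : orderOf g = Nat.card H := orderOf_eq_card_of_forall_mem_zpowers hg
  have hg1 : (g : PSL2) ≠ 1 := fun h => hgne (Subtype.ext h)
  obtain ⟨X, hX⟩ := toPSL_surjective (g : PSL2)
  rcases eq_or_ne p 2 with rfl | hp2
  · have h2 : (2 : F) = 0 := by exact_mod_cast CharP.cast_eq_zero F 2
    obtain ⟨n, -, hn⟩ := FiniteField.card F 2
    have ht4 := tr_sq_ne_four 2 hp (hX ▸ g.2) (hX ▸ hg1)
    have h0 : tr X ≠ 0 := fun h0 => ht4 (by rw [h0]; linear_combination (-2 : F) * h2)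
    have ht1 : tr X = 1 := by
      by_contra ht1
      exact semi X (hX ▸ g.2) (hX ▸ hg1) h0 (Or.inr (Or.inl ht1))
    have hns : ¬ IsSplit X := fun hs => semi X (hX ▸ g.2) (hX ▸ hg1) h0 (Or.inr (Or.inr hs))
    have hodd : Odd (n : ℕ) := by
      rw [← Nat.not_even_iff_odd]
      rintro ⟨k, hk⟩
      haveI : Fact (Nat.Prime 3) := ⟨Nat.prime_three⟩
      have hmod : Fintype.card F % 3 = 1 := by
        rw [hn, hk, ← two_mul, pow_mul, Nat.pow_mod]
        norm_num
      obtain ⟨u, hu⟩ := exists_prime_orderOf_dvd_card' (G := Fˣ) 3 (by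
        rw [Nat.card_units, Nat.card_eq_fintype_card]; omega)
      refine hns ⟨(u : F), ?_⟩
      have hu1 : (u : F) - 1 ≠ 0 := fun h => by
        rw [show u = 1 from Units.ext (sub_eq_zero.mp h), orderOf_one] at hu
        omega
      have hu3 : (u : F) ^ 3 = 1 := by
        rw [← Units.val_pow_eq_pow_val, ← hu, pow_orderOf_eq_one, Units.val_one]
      rw [ht1]
      refine (mul_eq_zero.mp (show ((u : F) - 1) * ((u : F) ^ 2 - 1 * (u : F) + 1) = 0 by
        linear_combination hu3 + (-(u : F) ^ 2 + (u : F)) * h2)).resolve_left hu1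
    refine Or.inr ⟨⟨n, hodd, hn⟩, ?_⟩
    have hsq : (X : M2) * (X : M2) = (X : M2) - 1 := by rw [sq_eq, ht1, one_smul]
    have hXXX : X * X * X = -1 := sl_ext (by
      rw [Matrix.SpecialLinearGroup.coe_mul, Matrix.SpecialLinearGroup.coe_mul, hsq, Matrix.sub_mul, hsq, one_mul,
        Matrix.SpecialLinearGroup.coe_neg, Matrix.SpecialLinearGroup.coe_one]
      abel)
    have h3 : g ^ 3 = 1 := Subtype.ext (by
      rw [Subgroup.coe_pow, ← hX, ← map_pow, pow_succ, sq, hXXX, Subgroup.coe_one]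
      exact toPSL_eq_one.mpr (Or.inr rfl))
    haveI : Fact (Nat.Prime 3) := ⟨Nat.prime_three⟩
    rw [← hgord]
    exact orderOf_eq_prime h3 hgne
  · exfalso
    have hodd := card_odd_of_ne_two (F := F) hp2
    by_cases h0 : tr X = 0
    · have hsq : g * g = 1 := Subtype.ext (by rw [Subgroup.coe_mul, ← hX, sq_eq_one_of_tr_zero h0, Subgroup.coe_one])
      have hord : orderOf g = 2 := orderOf_eq_prime (by rw [sq, hsq]) hgne
      refine not_binary_invol hodd (by omega) (x := (g : PSL2)) ((Subgroup.orderOf_coe g).trans hord) (fun w hw => ?_) hbin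
      have hwH := Nx_le g.2 hw
      have hmem := hg ⟨w, hwH⟩
      rw [mem_zpowers_iff_mem_range_orderOf, hord] at hmem
      simp only [Finset.mem_image, Finset.mem_range] at hmem
      obtain ⟨k, hk, he⟩ := hmem
      have he' : (g : PSL2) ^ k = w := congrArg Subtype.val he
      interval_cases k
      · exact Or.inl (by rw [← he', pow_zero])
      · exact Or.inr (by rw [← he', pow_one])
    · exact semi X (hX ▸ g.2) (hX ▸ hg1) h0 (Or.inl (Cfsg.Agent.Lib.Geometry.Dickson.two_ne_of_odd hodd))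

/-- A subgroup of order prime to `p` normalising a Sylow `p`-subgroup is cyclic. -/
theorem isCyclic_of_borel (p : ℕ) [Fact p.Prime] [CharP F p] (hp : ¬ p ∣ Nat.card H) (S : Sylow p PSL2)
    (h : H ≤ Subgroup.normalizer ((S : Subgroup PSL2) : Set PSL2)) : IsCyclic H := by
  have ht : tr (upper (1 : F)) ^ 2 = 4 := by rw [tr_upper]; norm_num
  obtain ⟨S₀, hS₀⟩ := exists_sylow_cell p (upper_notMem_center (one_ne_zero (α := F))) ht
  obtain ⟨c, hc⟩ := MulAction.exists_smul_eq PSL2 S S₀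
  have hKc := card_map_conj (H := H) c
  have e : H ≃* H.map (MulAut.conj c).toMonoidHom := H.equivMapOfInjective _ (MulAut.conj c).injective
  suffices IsCyclic (H.map (MulAut.conj c).toMonoidHom) from e.isCyclic.mpr this
  set K := H.map (MulAut.conj c).toMonoidHom with hK
  have hpK : ¬ p ∣ Nat.card K := by rw [hKc]; exact hp
  have hN : ∀ k ∈ K, k ∈ Subgroup.normalizer ((S₀ : Subgroup PSL2) : Set PSL2) := by
    rintro _ ⟨w, hw, rfl⟩
    rw [← hc, Sylow.coe_subgroup_smul]
    exact Subgroup.le_normalizer_map (f := (MulAut.conj c).toMonoidHom) ⟨w, h hw, rfl⟩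
  have h10 : ∀ W : SL2, toPSL W ∈ K → (W : M2) 1 0 = 0 := by
    intro W hW
    have hmem : toPSL W * toPSL (upper 1) * (toPSL W)⁻¹ ∈ (S₀ : Subgroup PSL2) :=
      (Subgroup.mem_normalizer_iff.mp (hN _ hW) _).mp (by
        rw [hS₀]; exact ⟨_, Cfsg.Agent.Lib.Geometry.Dickson.mem_cell_self ⊤ (Subgroup.mem_top _), rfl⟩)
    rw [hS₀] at hmem
    obtain ⟨Z, hZ, hZe⟩ := hmem
    rw [← map_inv, ← map_mul, ← map_mul] at hZe
    have hZc : Z * upper 1 = upper 1 * Z := mem_centralizer_iff.mp hZ.1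
    have hZ10 : (Z : M2) 1 0 = 0 := by
      have := congrArg (fun A : SL2 => (A : M2) 1 1) hZc
      simpa [Matrix.mul_apply, Fin.sum_univ_two, coe_upper'] using this
    have hd : ((W * upper 1 * W⁻¹ : SL2) : M2) 1 0 = 0 := by
      rcases toPSL_eq.mp hZe with e | e
      · rw [e]; exact hZ10
      · rw [e, Matrix.SpecialLinearGroup.coe_neg, Matrix.neg_apply, hZ10, neg_zero]
    simp [Matrix.mul_apply, Fin.sum_univ_two, coe_upper', Matrix.adjugate_fin_two, Matrix.vecMul, dotProduct] at hd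
    exact mul_self_eq_zero.mp (by linear_combination -hd)
  choose lift hlift using fun k : K => toPSL_surjective (k : PSL2)
  have key : ∀ (k : K) (W : SL2), toPSL W = k →
      (W : M2) 0 0 * (W : M2) 0 0 = (lift k : M2) 0 0 * (lift k : M2) 0 0 := fun k W hW => by
    rcases toPSL_eq.mp (hW.trans (hlift k).symm) with e | e <;> rw [e] <;> simp
  let f : K →* F :=
    { toFun := fun k => (lift k : M2) 0 0 * (lift k : M2) 0 0
      map_one' := by
        rw [← key 1 1 (by rw [map_one, Subgroup.coe_one])]; simp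
      map_mul' := fun a b => by
        rw [← key (a * b) (lift a * lift b) (by rw [map_mul, hlift, hlift, Subgroup.coe_mul]),
          Matrix.SpecialLinearGroup.coe_mul, Matrix.mul_apply, Fin.sum_univ_two,
          h10 (lift b) (by rw [hlift]; exact b.2), mul_zero, add_zero]
        ring }
  refine isCyclic_of_injective_ringHom (f := f) ((injective_iff_map_eq_one f).mpr fun k hk => ?_)
  by_contra hk1
  have hk' : (lift k : M2) 0 0 * (lift k : M2) 0 0 = 1 := hk
  have hne : toPSL (lift k) ≠ 1 := fun h => hk1 (Subtype.ext (by rw [← hlift k, h, Subgroup.coe_one]))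
  refine tr_sq_ne_four p hpK (W := lift k) (by rw [hlift]; exact k.2) hne ?_
  have hd := det_eq (lift k)
  rw [h10 (lift k) (by rw [hlift]; exact k.2), mul_zero, sub_zero] at hd
  rw [tr_eq]
  linear_combination ((lift k : M2) 1 1 * (lift k : M2) 1 1) * (-hk') + 2 * hd + hk' +
    ((lift k : M2) 0 0 * (lift k : M2) 1 1 + 1) * hd

/-- Stabilisers of order prime to the characteristic. -/
theorem coprime_case (h4 : 4 ≤ Fintype.card F) (h5 : Fintype.card F ≠ 5) (p : ℕ) [Fact p.Prime] [CharP F p]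
    (hp : ¬ p ∣ Nat.card H) (hbin : Binary H) :
    H = ⊥ ∨ ((∃ a : ℕ, Odd a ∧ Fintype.card F = 2 ^ a) ∧ Nat.card H = 3) := by
  have hodd2 : 2 ∣ Nat.card H → Fintype.card F % 2 = 1 := fun h2 =>
    card_odd_of_ne_two (p := p) (fun h => hp (by rw [h]; exact h2))
  rcases subType p H with ⟨k, -, hc, -⟩ | ⟨k, hk, ⟨e⟩⟩ | ⟨S, hS⟩ | e | e | e | ⟨K, hK⟩
  · exact cyclic_case h4 h5 p hp hbin
  · have hc : Nat.card H = 2 * k := (Nat.card_congr e.toEquiv).trans DihedralGroup.nat_card
    have hodd := hodd2 (hc ▸ dvd_mul_right 2 k)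
    have hd : Nat.gcd 2 (Fintype.card F - 1) = 2 := Nat.gcd_eq_left (Nat.dvd_iff_mod_eq_zero.mpr (by omega))
    rw [hd] at hk
    have hpos : 0 < Nat.card H := Nat.card_pos
    rcases Nat.lt_or_ge k 3 with hk3 | hk3
    · rcases (show k = 1 ∨ k = 2 by omega) with rfl | rfl
      · haveI : IsCyclic H := isCyclic_of_prime_card (p := 2) hc
        exact cyclic_case h4 h5 p hp hbin
      · refine absurd hbin (not_binary_klein hodd (by omega) ⟨hc, ?_⟩)
        rw [Monoid.exponent_eq_of_mulEquiv e]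
        exact IsKleinFour.exponent_two
    · refine absurd hbin (not_binary_dihedral hodd (by omega) hk3 e
        (fun W hW h1 => tr_sq_ne_four p hp hW h1) (fun hlt hkev => ?_))
      rw [Nat.not_odd_iff] at hkev
      have hle : k ≤ 5 := by
        rcases hk with h | h <;> exact (Nat.le_of_dvd (by omega) h).trans (by omega)
      rw [hc]
      interval_cases k <;> omega
  · haveI := isCyclic_of_borel p hp S hS
    exact cyclic_case h4 h5 p hp hbin
  · obtain ⟨e'⟩ := e
    have h2 : 2 ∣ Nat.card H :=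
      ⟨6, (Nat.card_congr e'.toEquiv).trans Cfsg.Agent.Lib.Geometry.Dickson.card_alt4⟩
    exact absurd hbin (not_binary_exceptional (hodd2 h2) h4 h5 p hp (Or.inl ⟨e'⟩))
  · obtain ⟨e'⟩ := e
    have h2 : 2 ∣ Nat.card H :=
      ⟨12, (Nat.card_congr e'.toEquiv).trans Cfsg.Agent.Lib.Geometry.Dickson.card_sym4⟩
    exact absurd hbin (not_binary_exceptional (hodd2 h2) h4 h5 p hp (Or.inr (Or.inl ⟨e'⟩)))
  · obtain ⟨e'⟩ := e
    have h2 : 2 ∣ Nat.card H :=
      ⟨30, (Nat.card_congr e'.toEquiv).trans Cfsg.Agent.Lib.Geometry.Dickson.card_alt5⟩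
    exact absurd hbin (not_binary_exceptional (hodd2 h2) h4 h5 p hp (Or.inr (Or.inr ⟨e'⟩)))
  · exfalso
    haveI := Fintype.ofFinite K
    haveI : CharP K p := K.subtype.charP K.subtype.injective p
    obtain ⟨n, hpr, hn⟩ := FiniteField.card K p
    have hpK : p ∣ Fintype.card K := hn ▸ dvd_pow_self p n.ne_zero
    rcases hK with ⟨⟨e⟩⟩ | ⟨⟨e⟩⟩
    · have hg := Cfsg.Agent.Lib.Classical.card_PSL2_mul (F := K)
      have hd : p ∣ Nat.gcd 2 (Fintype.card K - 1) * Nat.card (Matrix.ProjectiveSpecialLinearGroup (Fin 2) K) :=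
        hg ▸ dvd_mul_of_dvd_left hpK _
      rcases hpr.dvd_mul.mp hd with h | h
      · have h1 := Fintype.one_lt_card (α := K)
        have : p ∣ 1 := (Nat.dvd_add_right (h.trans (Nat.gcd_dvd_right _ _))).mp
          (show p ∣ (Fintype.card K - 1) + 1 by rwa [Nat.sub_add_cancel h1.le])
        exact hpr.one_lt.ne' (Nat.dvd_one.mp this)
      · exact hp ((Nat.card_congr e.toEquiv) ▸ h)
    · exact hp ((Nat.card_congr e.toEquiv) ▸ Cfsg.Agent.Lib.Geometry.Dickson.PGLMax.card_PGL2 (F := K) ▸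
        dvd_mul_of_dvd_left hpK _)

/-- The classification of binary coset actions. -/
theorem binary_iff (h4 : 4 ≤ Fintype.card F) (h5 : Fintype.card F ≠ 5) (hH : H ≠ ⊤) :
    Binary H ↔ (H = ⊥ ∨ ((∃ a : ℕ, Fintype.card F = 2 ^ a) ∧ ∃ P : Sylow 2 PSL2, H = P) ∨
      ((∃ a : ℕ, Odd a ∧ Fintype.card F = 2 ^ a) ∧ Nat.card H = 3)) := by
  obtain ⟨p, hchar⟩ := CharP.exists F
  haveI := hchar
  haveI : Fact p.Prime := ⟨CharP.char_is_prime F p⟩
  constructor
  · intro hbin
    by_cases hp : p ∣ Nat.card H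
    · obtain ⟨rfl, hc⟩ := sylow_of_binary h4 hH p hp hbin
      obtain ⟨n, -, hn⟩ := FiniteField.card F 2
      exact Or.inr (Or.inl ⟨⟨n, hn⟩, exists_sylow_of_card hc⟩)
    · rcases coprime_case h4 h5 p hp hbin with h | h
      · exact Or.inl h
      · exact Or.inr (Or.inr h)
  · rintro (rfl | ⟨⟨a, ha⟩, P, rfl⟩ | ⟨⟨a, ha, hq⟩, hc⟩)
    · exact binary_bot
    · obtain rfl := charP_two_of_card ha p
      exact binary_sylow P
    · obtain rfl := charP_two_of_card hq p
      exact binary_three ha hq (by exact_mod_cast CharP.cast_eq_zero F 2) hc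

end Cfsg.Agent.Lib.BinaryPSL
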