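import Cfsg.Agent.Lib.BinaryPSL.Basic
import Cfsg.Agent.Lib.Geometry.Dickson.FourGroups

/-!
Coset actions of `PSL₂` obstructed by a semisimple element of non-zero trace.
-/

set_option autoImplicit false

namespace Cfsg.Agent.Lib.BinaryPSL

open Matrix
open scoped MatrixGroups
open Cfsg.Agent.Lib.SL2Trace (tr tr_eq tr_conj tr_inv tr_neg toPSL toPSL_surjective toPSL_eq toPSL_eq_one toPSL_neg
  det_eq mem_center_iff tr_comp isConj_comp isConj_toPSL_of_tr exists_binary_eq_one)
open Cfsg.Agent.Lib.Geometry.Dickson (sl_ext mem_centralizer_iff centralizer_comm centralizer_eq eq_or_eq_inv_of_tr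
  IsSplit cell card_cell_split card_cell_nonsplit card_map_toPSL center_le_cell zz_eq)

variable {F : Type*} [Field F] [Fintype F]

local notation "SL2" => Matrix.SpecialLinearGroup (Fin 2) F
local notation "M2" => Matrix (Fin 2) (Fin 2) F
local notation "PSL2" => Matrix.ProjectiveSpecialLinearGroup (Fin 2) F

variable {H : Subgroup (Matrix.ProjectiveSpecialLinearGroup (Fin 2) F)}

omit [Fintype F] in
/-- Elements commuting with one of non-zero trace in `PSL₂` commute in `SL₂`. -/
theorem comm_of_psl {X W : SL2} (h0 : tr X ≠ 0) (h : toPSL W * toPSL X = toPSL X * toPSL W) : W * X = X * W := by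
  rw [← map_mul, ← map_mul] at h
  rcases toPSL_eq.mp h with e | e
  · exact e.symm
  · have hconj : W * X * W⁻¹ = -X := by
      rw [mul_inv_eq_iff_eq_mul, neg_mul, e, neg_neg]
    have ht := congrArg (tr (F := F)) hconj
    rw [tr_conj, tr_neg] at ht
    have h2 : (2 : F) = 0 := by
      have : 2 * tr X = 0 := by linear_combination ht
      exact (mul_eq_zero.mp this).resolve_right h0
    rw [e]
    refine sl_ext ?_
    ext i j
    simp only [Matrix.SpecialLinearGroup.coe_neg, Matrix.neg_apply]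
    linear_combination ((W * X : SL2) : M2) i j * h2

omit [Fintype F] in
theorem notMem_center {X : SL2} (ht : tr X ^ 2 ≠ 4) : X ∉ Subgroup.center SL2 := fun h => ht (by
  rcases mem_center_iff.mp h with rfl | rfl <;> simp [tr_eq] <;> norm_num)

/-- A product of two conjugates inside a triangle obstructs binarity. -/
theorem not_binary_of_partner {X U : SL2} (h0 : tr X ≠ 0) (ht : tr X ^ 2 ≠ 4)
    (hM : Nx H (toPSL X) ≤ Subgroup.centralizer ({toPSL X} : Set PSL2))
    (hU : tr U = tr X) (hV : tr (U⁻¹ * X) = tr X ∨ tr (U⁻¹ * X) = - tr X) (hne : U * X ≠ X * U) :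
    ¬ Binary H := by
  have htr : ∀ {Y : SL2}, (tr Y = tr X ∨ tr Y = - tr X) →
      Nx H (toPSL Y) ≤ Subgroup.centralizer ({toPSL Y} : Set PSL2) := by
    intro Y hY
    obtain ⟨c, hc⟩ := isConj_iff.mp (isConj_toPSL_of_tr hY ht)
    intro w hw
    rw [← hc, mem_Nx_conj] at hw
    have h := Subgroup.mem_centralizer_singleton_iff.mp (hM hw)
    rw [Subgroup.mem_centralizer_singleton_iff, ← hc]
    calc w * (c * toPSL X * c⁻¹) = c * ((c⁻¹ * w * c) * toPSL X) * c⁻¹ := by group
      _ = c * (toPSL X * (c⁻¹ * w * c)) * c⁻¹ := by rw [h]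
      _ = c * toPSL X * c⁻¹ * w := by group
  refine not_binary_of_triangle (x := toPSL X) (y := toPSL U) (z := toPSL (U⁻¹ * X))
    (by rw [← map_mul, mul_inv_cancel_left]) ?_
  intro g hx hy hz
  obtain ⟨G, rfl⟩ := toPSL_surjective g
  have hGX := comm_of_psl h0 (Subgroup.mem_centralizer_singleton_iff.mp (hM hx))
  have hGU := comm_of_psl (hU ▸ h0) (Subgroup.mem_centralizer_singleton_iff.mp (htr (Or.inl hU) hy))
  have hg : (toPSL G : PSL2) = 1 := by
    refine toPSL_eq_one.mpr (mem_center_iff.mp ?_)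
    by_contra hG
    exact hne (mem_centralizer_iff.mp (centralizer_eq (notMem_center ht) hG (mem_centralizer_iff.mpr hGX) ▸
      (mem_centralizer_iff.mpr hGU.symm : U ∈ Subgroup.centralizer ({G} : Set SL2))))
  rw [hg, mul_one, ← map_inv] at hz
  have hZ0 : tr (U⁻¹ * X) ≠ 0 := by
    rcases hV with e | e <;> rw [e]
    · exact h0
    · exact neg_ne_zero.mpr h0
  have h := comm_of_psl hZ0 (Subgroup.mem_centralizer_singleton_iff.mp (htr hV hz))
  refine hne ?_
  have h' : X⁻¹ * U⁻¹ * X = U⁻¹ := by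
    calc X⁻¹ * U⁻¹ * X = X⁻¹ * (U⁻¹ * X) := mul_assoc _ _ _
      _ = U⁻¹ * X * X⁻¹ := h
      _ = U⁻¹ := mul_inv_cancel_right _ _
  have h'' : X⁻¹ * U * X = U := by
    have := congrArg (·⁻¹) h'
    simpa [mul_assoc] using this
  calc U * X = X * (X⁻¹ * U * X) := by group
    _ = X * U := by rw [h'']

/-- The conic of elements of trace `t` whose quotient has trace `β`. -/
theorem exists_conic_at {t β : F} (ht : t ^ 2 ≠ 4) :
    ∃ u v : F, u * (t - u) - v * (β + v - u * t) = 1 := by
  have hD : 4 - t ^ 2 ≠ 0 := fun h => ht (by linear_combination -h)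
  obtain ⟨u₀, hu₀⟩ : ∃ u₀ : F, u₀ = (2 * t - t * β) / (4 - t ^ 2) := ⟨_, rfl⟩
  obtain ⟨v₀, hv₀⟩ : ∃ v₀ : F, v₀ = (t * t - 2 * β) / (4 - t ^ 2) := ⟨_, rfl⟩
  have e1 : -2 * u₀ + t * v₀ + t = 0 := by rw [hu₀, hv₀]; field_simp; ring
  have e2 : t * u₀ - 2 * v₀ - β = 0 := by rw [hu₀, hv₀]; field_simp; ring
  obtain ⟨K, hK⟩ : ∃ K : F, K = 1 - (u₀ * (t - u₀) - v₀ * (β + v₀ - u₀ * t)) := ⟨_, rfl⟩
  obtain ⟨x, y, hxy⟩ : ∃ x y : F, -x ^ 2 + t * x * y - y ^ 2 = K := by
    by_cases hK0 : K = 0
    · exact ⟨0, 0, by rw [hK0]; ring⟩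
    · obtain ⟨x, y, hxy⟩ := exists_binary_eq_one (-1 / K) (t / K) (1 / K) (by
        have e : (t / K) ^ 2 + 4 * (-1 / K) * (1 / K) = -(4 - t ^ 2) / K ^ 2 := by
          field_simp
          ring
        rw [e]
        exact div_ne_zero (neg_ne_zero.mpr hD) (pow_ne_zero 2 hK0))
      refine ⟨x, y, ?_⟩
      field_simp at hxy
      linear_combination hxy
  exact ⟨u₀ + x, v₀ + y, by linear_combination hxy + hK + x * e1 + y * e2⟩

omit [Fintype F] in
theorem tr_sq_self (X : SL2) : tr (X * X) = tr X ^ 2 - 2 := by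
  have hd := det_eq X
  simp only [tr_eq, Matrix.SpecialLinearGroup.coe_mul, Matrix.mul_apply, Fin.sum_univ_two]
  linear_combination -2 * hd

theorem exists_partner {X : SL2} (h0 : tr X ≠ 0) (ht : tr X ^ 2 ≠ 4)
    (hex : (2 : F) ≠ 0 ∨ tr X ≠ 1 ∨ IsSplit X) :
    ∃ U : SL2, tr U = tr X ∧ (tr (U⁻¹ * X) = tr X ∨ tr (U⁻¹ * X) = - tr X) ∧ U * X ≠ X * U := by
  set t := tr X with htdef
  by_cases hgen : (2 : F) ≠ 0 ∨ t ≠ 1
  · -- a value of the trace of the quotient not attained in the centraliser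
    obtain ⟨β, hβ, hβ2, hβs⟩ : ∃ β : F, (β = t ∨ β = -t) ∧ β ≠ 2 ∧ β ≠ t ^ 2 - 2 := by
      by_cases ht1 : t = -1
      · have h2 : (2 : F) ≠ 0 := fun h2 => (hgen.resolve_left (fun h => h h2)) (by
          rw [ht1]; linear_combination -h2)
        refine ⟨1, Or.inr (by rw [ht1]; ring), fun h => ?_, fun h => h2 (by rw [ht1] at h; linear_combination h)⟩
        exact one_ne_zero (α := F) (by linear_combination -h)
      · refine ⟨t, Or.inl rfl, fun h => ht (by rw [h]; norm_num), fun h => ?_⟩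
        have : (t - 2) * (t + 1) = 0 := by linear_combination -h
        rcases mul_eq_zero.mp this with h' | h'
        · exact ht (by linear_combination (t + 2) * h')
        · exact ht1 (by linear_combination h')
    obtain ⟨P, hP⟩ := isConj_iff.mp (isConj_comp ht)
    obtain ⟨u, v, huv⟩ := exists_conic_at (β := β) ht
    let U₀ : SL2 := ⟨!![u, v; β + v - u * t, t - u], by simp [Matrix.det_fin_two]; linear_combination huv⟩
    have hU₀ : (U₀ : M2) = !![u, v; β + v - u * t, t - u] := rfl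
    have e0 : tr U₀ = t := by rw [tr_eq]; simp [hU₀]
    have e1 : tr (U₀⁻¹ * Cfsg.Agent.Lib.SL2Trace.comp t) = β := by
      rw [tr_eq, Matrix.SpecialLinearGroup.coe_mul, Matrix.SpecialLinearGroup.coe_inv, hU₀,
        show ((Cfsg.Agent.Lib.SL2Trace.comp t : SL2) : M2) = !![0, -1; 1, t] from rfl]
      simp [Matrix.adjugate_fin_two, Matrix.mul_apply, Fin.sum_univ_two]
    refine ⟨P * U₀ * P⁻¹, by rw [tr_conj, e0], ?_, fun hc => ?_⟩
    · have : tr ((P * U₀ * P⁻¹)⁻¹ * X) = β := by
        rw [← hP, show (P * U₀ * P⁻¹)⁻¹ * (P * Cfsg.Agent.Lib.SL2Trace.comp (tr X) * P⁻¹) = P * (U₀⁻¹ * Cfsg.Agent.Lib.SL2Trace.comp (tr X)) * P⁻¹ by group,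
          tr_conj]
        exact e1
      rw [this]
      exact hβ
    · have hβ' : tr ((P * U₀ * P⁻¹)⁻¹ * X) = β := by
        rw [← hP, show (P * U₀ * P⁻¹)⁻¹ * (P * Cfsg.Agent.Lib.SL2Trace.comp (tr X) * P⁻¹) = P * (U₀⁻¹ * Cfsg.Agent.Lib.SL2Trace.comp (tr X)) * P⁻¹ by group,
          tr_conj]
        exact e1
      rcases eq_or_eq_inv_of_tr (notMem_center ht) ht (mem_centralizer_iff.mpr hc) (by rw [tr_conj, e0]) with e | e
      · rw [e, inv_mul_cancel] at hβ'
        exact hβ2 (by rw [← hβ', tr_eq]; simp; norm_num)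
      · rw [e, inv_inv, tr_sq_self] at hβ'
        exact hβs hβ'.symm
  · push Not at hgen
    obtain ⟨h2, h1⟩ := hgen
    obtain ⟨r, hr⟩ := (hex.resolve_left (fun h => h h2)).resolve_left (fun h => h h1)
    rw [← htdef, h1, one_mul] at hr
    have hr0 : r ≠ 0 := fun h => by simp [h] at hr
    let D : SL2 := ⟨!![r, 0; 0, r⁻¹], by simp [Matrix.det_fin_two, hr0]⟩
    have hD : (D : M2) = !![r, 0; 0, r⁻¹] := rfl
    have htD : tr D = 1 := by
      rw [tr_eq]; simp [hD]; field_simp; linear_combination hr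
    obtain ⟨P, hP⟩ := isConj_iff.mp (Cfsg.Agent.Lib.SL2Trace.isConj_of_tr_eq (htD.trans h1.symm)
      (by rw [htD, ← h1]; exact ht))
    let U₀ : SL2 := D⁻¹ * Cfsg.Agent.Lib.Geometry.Dickson.upper 1
    have hU₀ : (Cfsg.Agent.Lib.Geometry.Dickson.upper (1 : F) : M2) = !![1, 1; 0, 1] := rfl
    have e0 : tr U₀ = t := by
      rw [h1, tr_eq]
      simp [U₀, hD, hU₀, Matrix.SpecialLinearGroup.coe_inv, Matrix.adjugate_fin_two, Matrix.mul_apply,
        Fin.sum_univ_two, Matrix.vecMul, dotProduct]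
      field_simp
      linear_combination hr
    refine ⟨P * U₀ * P⁻¹, by rw [tr_conj, e0], Or.inl ?_, fun hc => ?_⟩
    · rw [← hP, show (P * U₀ * P⁻¹)⁻¹ * (P * D * P⁻¹) = P * (U₀⁻¹ * D) * P⁻¹ by group, tr_conj, h1, tr_eq]
      simp [U₀, hD, hU₀, Matrix.SpecialLinearGroup.coe_inv, Matrix.adjugate_fin_two, Matrix.mul_apply,
        Fin.sum_univ_two, Matrix.vecMul, dotProduct]
      field_simp
      linear_combination (r ^ 2 + r + 1) * hr - (r ^ 2) * h2
    · rw [← hP] at hc
      have hc' : U₀ * D = D * U₀ := by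
        have := congrArg (fun g => P⁻¹ * g * P) hc
        simpa [mul_assoc] using this
      have := congrArg (fun g : SL2 => (g : M2) 0 1) hc'
      simp [U₀, hD, hU₀, Matrix.SpecialLinearGroup.coe_inv, Matrix.adjugate_fin_two, Matrix.mul_apply,
        Fin.sum_univ_two, Matrix.vecMul, dotProduct] at this
      field_simp at this
      refine ht ?_
      rw [h1]
      have hr2 : r = 1 := by
        rcases mul_eq_zero.mp (show (r - 1) * (r + 1) = 0 by linear_combination -this) with h | h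
        · exact sub_eq_zero.mp h
        · linear_combination h - h2
      rw [hr2] at hr
      linear_combination (-3) * hr + (0 : F) * h2

/-- The main lemma on semisimple elements. -/
theorem not_binary_semisimple {X : SL2} (h0 : tr X ≠ 0) (ht : tr X ^ 2 ≠ 4)
    (hex : (2 : F) ≠ 0 ∨ tr X ≠ 1 ∨ IsSplit X)
    (hM : Nx H (toPSL X) ≤ Subgroup.centralizer ({toPSL X} : Set PSL2)) : ¬ Binary H := by
  obtain ⟨U, hU, hV, hne⟩ := exists_partner h0 ht hex
  exact not_binary_of_partner h0 ht hM hU hV hne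

/-- The centraliser of a semisimple element of non-zero trace. -/
theorem centralizer_eq_map {X : SL2} (h0 : tr X ≠ 0) :
    Subgroup.centralizer ({toPSL X} : Set PSL2) = (cell ⊤ X).map toPSL := by
  ext g
  obtain ⟨G, rfl⟩ := toPSL_surjective g
  rw [Subgroup.mem_centralizer_singleton_iff]
  constructor
  · intro h
    exact ⟨G, ⟨mem_centralizer_iff.mpr (comm_of_psl h0 h), Subgroup.mem_top _⟩, rfl⟩
  · rintro ⟨G', hG', he⟩
    rw [← he, ← map_mul, ← map_mul, mem_centralizer_iff.mp hG'.1]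

theorem centralizer_commutes {X : SL2} (h0 : tr X ≠ 0) (ht : tr X ^ 2 ≠ 4) {a b : PSL2}
    (ha : a * toPSL X = toPSL X * a) (hb : b * toPSL X = toPSL X * b) : a * b = b * a := by
  obtain ⟨A, rfl⟩ := toPSL_surjective a
  obtain ⟨B, rfl⟩ := toPSL_surjective b
  rw [← map_mul, ← map_mul, centralizer_comm (notMem_center ht) (mem_centralizer_iff.mpr (comm_of_psl h0 ha))
    (mem_centralizer_iff.mpr (comm_of_psl h0 hb))]

theorem card_centralizer (hodd : Fintype.card F % 2 = 1) {X : SL2} (h0 : tr X ≠ 0) (ht : tr X ^ 2 ≠ 4) :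
    2 * Nat.card (Subgroup.centralizer ({toPSL X} : Set PSL2)) + 1 = Fintype.card F ∨
      2 * Nat.card (Subgroup.centralizer ({toPSL X} : Set PSL2)) = Fintype.card F + 1 := by
  rw [centralizer_eq_map h0]
  have hd : Nat.gcd 2 (Fintype.card F - 1) = 2 := Nat.gcd_eq_left (Nat.dvd_iff_mod_eq_zero.mpr (by omega))
  have h := card_map_toPSL (⊤ : Subgroup SL2) le_top (cell ⊤ X) (center_le_cell ⊤ le_top X) le_top
  rw [zz_eq, hd] at h
  by_cases hs : IsSplit X
  · rw [card_cell_split (notMem_center ht) ht hs] at h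
    left; omega
  · rw [card_cell_nonsplit (notMem_center ht) ht hs] at h
    right; omega

/-- Few conjugates of `x` in `H` force the intersection into the centraliser. -/
theorem Nx_le_of_few {X : SL2} (h0 : tr X ≠ 0) (ht : tr X ^ 2 ≠ 4) (hX : toPSL X ∈ H)
    (hA : Nat.card {h : H // orderOf (h : PSL2) = orderOf (toPSL X) ∧ (h : PSL2) ≠ toPSL X ∧
      (h : PSL2) ≠ (toPSL X)⁻¹} < Nat.card (Subgroup.centralizer ({toPSL X} : Set PSL2)))
    (hB : 2 * Nat.card {h : H // (h : PSL2) * toPSL X * (h : PSL2)⁻¹ = (toPSL X)⁻¹} <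
      Nat.card (Subgroup.centralizer ({toPSL X} : Set PSL2))) :
    Nx H (toPSL X) ≤ Subgroup.centralizer ({toPSL X} : Set PSL2) := by
  classical
  set x := toPSL X with hx
  set C := Subgroup.centralizer ({x} : Set PSL2) with hC
  have hCm : ∀ τ : C, (τ : PSL2) * x = x * τ := fun τ => Subgroup.mem_centralizer_singleton_iff.mp τ.2
  intro w hw
  rw [hC, Subgroup.mem_centralizer_singleton_iff]
  have hwH := Nx_le hX hw
  set x' := w * x * w⁻¹ with hx'
  have hx'M : x' ∈ Nx H x :=
    Subgroup.mul_mem _ (Subgroup.mul_mem _ hw (self_mem_Nx x)) (Subgroup.inv_mem _ hw)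
  haveI := Fintype.ofFinite C
  by_cases hc : x' * x = x * x'
  · obtain ⟨W, rfl⟩ := toPSL_surjective w
    have e : x' = toPSL (W * X * W⁻¹) := by rw [hx', map_mul, map_mul, map_inv]
    rw [e, hx] at hc
    have hc' := comm_of_psl h0 hc
    rcases eq_or_eq_inv_of_tr (notMem_center ht) ht (mem_centralizer_iff.mpr hc') (tr_conj X W) with h | h
    · rw [hx, ← map_mul, ← map_mul, mul_inv_eq_iff_eq_mul.mp h]
    · exfalso
      have hinv : toPSL W * x * (toPSL W)⁻¹ = x⁻¹ := by rw [hx, ← map_inv, ← map_inv, ← map_mul, ← map_mul, h]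
      let f : C → {k : H // (k : PSL2) * x * (k : PSL2)⁻¹ = x⁻¹} := fun τ =>
        ⟨⟨(τ : PSL2) * toPSL W * (τ : PSL2)⁻¹, Nx_le hX (conj_mem_Nx' (hCm τ) hw)⟩, by
          show (τ : PSL2) * toPSL W * (τ : PSL2)⁻¹ * x * ((τ : PSL2) * toPSL W * (τ : PSL2)⁻¹)⁻¹ = x⁻¹
          have hτ : (τ : PSL2)⁻¹ * x * (τ : PSL2) = x := by rw [mul_assoc, ← hCm τ, inv_mul_cancel_left]
          calc _ = (τ : PSL2) * (toPSL W * ((τ : PSL2)⁻¹ * x * (τ : PSL2)) * (toPSL W)⁻¹) * (τ : PSL2)⁻¹ := by group
            _ = (τ : PSL2) * x⁻¹ * (τ : PSL2)⁻¹ := by rw [hτ, hinv]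
            _ = ((τ : PSL2) * x * (τ : PSL2)⁻¹)⁻¹ := by group
            _ = x⁻¹ := by rw [hCm τ, mul_inv_cancel_right]⟩
      haveI := Fintype.ofFinite {k : H // (k : PSL2) * x * (k : PSL2)⁻¹ = x⁻¹}
      -- two elements of the centraliser commute with `W` modulo the centre
      have key : ∀ σ : C, (σ : PSL2) * toPSL W = toPSL W * (σ : PSL2) → ∀ σ' : C,
          (σ' : PSL2) * toPSL W = toPSL W * (σ' : PSL2) → σ ≠ 1 → σ' ≠ 1 → σ = σ' := by
        intro σ hσ σ' hσ' h1 h1'
        have lift : ∀ σ : C, (σ : PSL2) * toPSL W = toPSL W * (σ : PSL2) → σ ≠ 1 →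
            ∃ S : SL2, toPSL S = σ ∧ S ∈ Subgroup.centralizer ({X} : Set SL2) ∧ S ∉ Subgroup.center SL2 ∧
              tr S = 0 ∧ tr S ^ 2 ≠ 4 := by
          intro σ hσ h1
          obtain ⟨S, hS⟩ := toPSL_surjective (σ : PSL2)
          have hSX : S * X = X * S := comm_of_psl h0 (by rw [hS]; exact hCm σ)
          have hSc : S ∉ Subgroup.center SL2 := fun hc0 => h1 (Subtype.ext (by
            rw [← hS]; exact toPSL_eq_one.mpr (mem_center_iff.mp hc0)))
          have hcS := centralizer_eq (notMem_center ht) hSc (mem_centralizer_iff.mpr hSX)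
          have hS0 : tr S = 0 := by
            by_contra hS0
            have hWS := comm_of_psl (W := W) hS0 (by rw [hS]; exact hσ.symm)
            have := mem_centralizer_iff.mp (hcS ▸
              (mem_centralizer_iff.mpr hWS : W ∈ Subgroup.centralizer ({S} : Set SL2)))
            rw [this, mul_inv_cancel_right] at h
            have h2 : X * X = 1 := mul_eq_one_iff_eq_inv.mpr h
            have := congrArg (tr (F := F)) h2
            rw [tr_sq_self] at this
            refine ht ?_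
            simp [tr_eq] at this ⊢
            linear_combination this
          refine ⟨S, hS, mem_centralizer_iff.mpr hSX, hSc, hS0, fun h4 => ?_⟩
          rw [hS0] at h4
          have h2 : (2 : F) = 0 := mul_self_eq_zero.mp (by linear_combination -h4)
          have hWS : W * S = S * W := by
            rw [← hS, ← map_mul, ← map_mul] at hσ
            rcases toPSL_eq.mp hσ with e | e
            · exact e
            · rw [e]; refine sl_ext ?_; ext i j
              simp only [Matrix.SpecialLinearGroup.coe_neg, Matrix.neg_apply]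
              linear_combination -((S * W : SL2) : M2) i j * h2
          have := mem_centralizer_iff.mp (hcS ▸
            (mem_centralizer_iff.mpr hWS : W ∈ Subgroup.centralizer ({S} : Set SL2)))
          rw [this, mul_inv_cancel_right] at h
          have hX2 : X * X = 1 := mul_eq_one_iff_eq_inv.mpr h
          have := congrArg (tr (F := F)) hX2
          rw [tr_sq_self] at this
          refine ht ?_
          simp [tr_eq] at this ⊢
          linear_combination this
        obtain ⟨S, hS, hSX, hSc, hS0, hS4⟩ := lift σ hσ h1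
        obtain ⟨S', hS', hSX', -, hS0', -⟩ := lift σ' hσ' h1'
        have hcS := centralizer_eq (notMem_center ht) hSc hSX
        refine Subtype.ext ?_
        rw [← hS, ← hS']
        rcases eq_or_eq_inv_of_tr hSc hS4 (hcS.symm ▸ hSX') (hS0'.trans hS0.symm) with e | e
        · rw [e]
        · rw [e, toPSL_eq]
          right
          refine sl_ext ?_
          rw [Cfsg.Agent.Lib.Geometry.Dickson.coe_inv_eq, hS0, zero_smul, zero_sub,
            Matrix.SpecialLinearGroup.coe_neg]
      have hfib : ∀ k, ((Finset.univ : Finset C).filter fun τ => f τ = k).card ≤ 2 := by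
        intro k
        by_contra hlt
        obtain ⟨a, ha, b, hb, c, hc, hab', hac', hbc'⟩ := Finset.two_lt_card.mp (not_le.mp hlt)
        simp only [Finset.mem_filter, Finset.mem_univ, true_and] at ha hb hc
        have rel : ∀ a b : C, f a = f b → ((a⁻¹ * b : C) : PSL2) * toPSL W = toPSL W * ((a⁻¹ * b : C) : PSL2) := by
          intro a b hab
          have h' : (a : PSL2) * toPSL W * (a : PSL2)⁻¹ = (b : PSL2) * toPSL W * (b : PSL2)⁻¹ :=
            congrArg (fun k : {k : H // (k : PSL2) * x * (k : PSL2)⁻¹ = x⁻¹} => ((k : H) : PSL2)) hab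
          calc ((a⁻¹ * b : C) : PSL2) * toPSL W
              = (a : PSL2)⁻¹ * ((b : PSL2) * toPSL W * (b : PSL2)⁻¹) * b := by push_cast; group
            _ = (a : PSL2)⁻¹ * ((a : PSL2) * toPSL W * (a : PSL2)⁻¹) * b := by rw [h']
            _ = toPSL W * ((a⁻¹ * b : C) : PSL2) := by push_cast; group
        have := key _ (rel a b (ha.trans hb.symm)) _ (rel a c (ha.trans hc.symm))
          (fun h => hab' (inv_mul_eq_one.mp h)) (fun h => hac' (inv_mul_eq_one.mp h))
        exact hbc' (mul_left_cancel this)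
      have := Finset.card_le_mul_card_image (f := f) (Finset.univ : Finset C) 2 (fun k _ => hfib k)
      rw [Finset.card_univ, ← Nat.card_eq_fintype_card] at this
      have h' := this.trans (Nat.mul_le_mul_left 2 (Finset.card_le_univ _))
      rw [← Nat.card_eq_fintype_card] at h'
      omega
  · exfalso
    haveI := Fintype.ofFinite {h : H // orderOf (h : PSL2) = orderOf x ∧ (h : PSL2) ≠ x ∧ (h : PSL2) ≠ x⁻¹}
    have hord : ∀ τ : C, orderOf ((τ : PSL2) * x' * (τ : PSL2)⁻¹) = orderOf x := fun τ => by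
      rw [hx', show (τ : PSL2) * (w * x * w⁻¹) * (τ : PSL2)⁻¹ = MulAut.conj ((τ : PSL2) * w) x by
        simp [MulAut.conj_apply, mul_assoc], MulEquiv.orderOf_eq]
    let f : C → {h : H // orderOf (h : PSL2) = orderOf x ∧ (h : PSL2) ≠ x ∧ (h : PSL2) ≠ x⁻¹} := fun τ =>
      ⟨⟨(τ : PSL2) * x' * (τ : PSL2)⁻¹, Nx_le hX (conj_mem_Nx' (hCm τ) hx'M)⟩, hord τ, fun h => hc (by
        have e : x' = x := by
          calc x' = (τ : PSL2)⁻¹ * ((τ : PSL2) * x' * (τ : PSL2)⁻¹) * τ := by group
            _ = (τ : PSL2)⁻¹ * x * τ := by rw [show (τ : PSL2) * x' * (τ : PSL2)⁻¹ = x from h]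
            _ = x := by rw [mul_assoc, ← hCm τ, inv_mul_cancel_left]
        rw [e]), fun h => hc (by
        have e : x' = x⁻¹ := by
          calc x' = (τ : PSL2)⁻¹ * ((τ : PSL2) * x' * (τ : PSL2)⁻¹) * τ := by group
            _ = ((τ : PSL2)⁻¹ * x * τ)⁻¹ := by rw [show (τ : PSL2) * x' * (τ : PSL2)⁻¹ = x⁻¹ from h]; group
            _ = x⁻¹ := by rw [mul_assoc, ← hCm τ, inv_mul_cancel_left]
        rw [e, inv_mul_cancel, mul_inv_cancel])⟩
    have hf : Function.Injective f := by
      intro a b hab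
      have h' : (a : PSL2) * x' * (a : PSL2)⁻¹ = (b : PSL2) * x' * (b : PSL2)⁻¹ :=
        congrArg (fun k : {h : H // orderOf (h : PSL2) = orderOf x ∧ (h : PSL2) ≠ x ∧ (h : PSL2) ≠ x⁻¹} =>
          ((k : H) : PSL2)) hab
      by_contra hne
      obtain ⟨S, hS⟩ := toPSL_surjective ((a⁻¹ * b : C) : PSL2)
      obtain ⟨W, hW⟩ := toPSL_surjective w
      have hSx' : toPSL S * x' = x' * toPSL S := by
        rw [hS]
        calc ((a⁻¹ * b : C) : PSL2) * x' = (a : PSL2)⁻¹ * ((b : PSL2) * x' * (b : PSL2)⁻¹) * b := by push_cast; group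
          _ = (a : PSL2)⁻¹ * ((a : PSL2) * x' * (a : PSL2)⁻¹) * b := by rw [h']
          _ = x' * ((a⁻¹ * b : C) : PSL2) := by push_cast; group
      have e' : x' = toPSL (W * X * W⁻¹) := by rw [hx', ← hW, map_mul, map_mul, map_inv]
      rw [e'] at hSx'
      have h1 := comm_of_psl h0 (show toPSL S * toPSL X = toPSL X * toPSL S by rw [hS]; exact hCm _)
      have h2 := comm_of_psl (by rwa [tr_conj]) hSx'
      have hSc : S ∉ Subgroup.center SL2 := fun h0' => hne (inv_mul_eq_one.mp (Subtype.ext (by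
        rw [← hS]; exact toPSL_eq_one.mpr (mem_center_iff.mp h0'))))
      have h3 := centralizer_comm hSc (mem_centralizer_iff.mpr h2.symm) (mem_centralizer_iff.mpr h1.symm)
      refine hc ?_
      rw [e', hx, ← map_mul, ← map_mul, h3]
    have := Fintype.card_le_of_injective f hf
    rw [← Nat.card_eq_fintype_card, ← Nat.card_eq_fintype_card] at this
    omega

end Cfsg.Agent.Lib.BinaryPSL
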