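import Cfsg.Agent.Lib.BinaryPSL.Involution
import Cfsg.Agent.Lib.Geometry.Dickson.MaxExist

/-!
Coset actions of `PSL₂(q)` on the cosets of a tetrahedral, octahedral or icosahedral subgroup.
-/

set_option autoImplicit false

namespace Cfsg.Agent.Lib.BinaryPSL

open Matrix
open scoped MatrixGroups
open Cfsg.Agent.Lib.SL2Trace (tr tr_eq toPSL toPSL_surjective toPSL_eq_one mem_center_iff pow_char_of_tr toPSL_neg)
open Cfsg.Agent.Lib.Geometry.Dickson (invol_data orderOf_eq_two_iff' card_PSL2_odd card_alt4 card_sym4 card_alt5)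

variable {F : Type*} [Field F] [Fintype F]

local notation "SL2" => Matrix.SpecialLinearGroup (Fin 2) F
local notation "PSL2" => Matrix.ProjectiveSpecialLinearGroup (Fin 2) F

variable {H : Subgroup (Matrix.ProjectiveSpecialLinearGroup (Fin 2) F)}

/-- In a subgroup of order prime to `p` nothing but `1` has trace `±2`. -/
theorem tr_sq_ne_four (p : ℕ) [Fact p.Prime] [CharP F p] (hp : ¬ p ∣ Nat.card H) {W : SL2}
    (hW : toPSL W ∈ H) (h1 : toPSL W ≠ 1) : tr W ^ 2 ≠ 4 := by
  intro h
  have h' : toPSL W ^ p = 1 := by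
    rw [← map_pow]
    rcases pow_char_of_tr p h with e | e <;> rw [e]
    · exact map_one _
    · rw [toPSL_neg, map_one]
  exact hp ((orderOf_eq_prime h' h1) ▸ (Subgroup.orderOf_coe (⟨_, hW⟩ : H)) ▸ orderOf_dvd_natCard _)

/-- The conjugators of `h` into `H`. -/
theorem card_conjugators (h : H) (T : H → Prop)
    (hT : ∀ a : PSL2, ∀ ha : a⁻¹ * (h : PSL2) * a ∈ H, T ⟨_, ha⟩) :
    Nat.card {a : PSL2 // a⁻¹ * (h : PSL2) * a ∈ H} ≤
      Nat.card (Subgroup.centralizer ({(h : PSL2)} : Set PSL2)) * Nat.card {k : H // T k} := by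
  classical
  rw [← Nat.card_prod]
  let wit : {k : H // T k} → PSL2 := fun k =>
    if hk : ∃ a : PSL2, a⁻¹ * (h : PSL2) * a = (k.1 : PSL2) then Classical.choose hk else 1
  refine Nat.card_le_card_of_injective (fun a =>
    (⟨a.1 * (wit ⟨⟨_, a.2⟩, hT a.1 a.2⟩)⁻¹, ?_⟩, ⟨⟨_, a.2⟩, hT a.1 a.2⟩)) ?_
  · have hex : ∃ b : PSL2, b⁻¹ * (h : PSL2) * b = a.1⁻¹ * (h : PSL2) * a.1 := ⟨a.1, rfl⟩
    have hb : wit ⟨⟨_, a.2⟩, hT a.1 a.2⟩ = Classical.choose hex := dif_pos hex
    have hs := Classical.choose_spec hex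
    rw [hb, Subgroup.mem_centralizer_singleton_iff]
    generalize Classical.choose hex = b at hs
    calc a.1 * b⁻¹ * (h : PSL2) = a.1 * (b⁻¹ * (h : PSL2) * b) * b⁻¹ := by group
      _ = (h : PSL2) * (a.1 * b⁻¹) := by rw [hs]; group
  · intro a a' e
    simp only [Prod.mk.injEq, Subtype.mk.injEq] at e
    obtain ⟨e1, e2⟩ := e
    have : wit ⟨⟨_, a.2⟩, hT a.1 a.2⟩ = wit ⟨⟨_, a'.2⟩, hT a'.1 a'.2⟩ :=
      congrArg wit (Subtype.ext (Subtype.ext e2))
    rw [this] at e1
    exact Subtype.ext (mul_right_cancel e1)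

section Model

variable {M : Type*} [Group M] [Fintype M] [DecidableEq M]

/-- The elements with the same powers trivial among the second to fifth. -/
def alike (a : M) : Finset M :=
  Finset.univ.filter fun b => (a ^ 2 = 1 ↔ b ^ 2 = 1) ∧ (a ^ 3 = 1 ↔ b ^ 3 = 1) ∧ (a ^ 4 = 1 ↔ b ^ 4 = 1) ∧
    (a ^ 5 = 1 ↔ b ^ 5 = 1)

/-- The bound on conjugators read in a model of `H`. -/
theorem not_binary_model (hodd : Fintype.card F % 2 = 1) (p : ℕ) [Fact p.Prime] [CharP F p]
    (hp : ¬ p ∣ Nat.card H) (e : H ≃* M) {N A₂ A₃ g R : ℕ} (hN : Nat.card M = N)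
    (h₂ : ∑ a : M, (if a = 1 then 0 else if a ^ 2 = 1 then (alike a).card else 0) = A₂)
    (h₃ : ∑ a : M, (if a = 1 then 0 else if a ^ 2 = 1 then 0 else (alike a).card) = A₃)
    (hg : Nat.card PSL2 = g)
    (hR : g + (Fintype.card F + 1) * A₂ + (Fintype.card F + 1) / 2 * A₃ < (R + 2) * N ^ 2)
    (hn : R ^ 3 * g < g / N * (g / N - 1) * (g / N - 2)) : ¬ Binary H := by
  classical
  set c := (Fintype.card F + 1) / 2
  let w : M → ℕ := fun a => (if a = 1 then g else 0) +
    (Fintype.card F + 1) * (if a = 1 then 0 else if a ^ 2 = 1 then (alike a).card else 0) +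
    c * (if a = 1 then 0 else if a ^ 2 = 1 then 0 else (alike a).card)
  have hcard : Nat.card H = N := (Nat.card_congr e.toEquiv).trans hN
  have hpos : 0 < N := hN ▸ Nat.card_pos
  refine not_binary_of_count (fun h => w (e h)) R (fun h => ?_) ?_ ?_
  · by_cases h1 : h = 1
    · subst h1
      have : w (e 1) = g := by simp [w]
      rw [this, ← hg]
      exact Nat.card_le_card_of_injective _ Subtype.val_injective
    have he1 : e h ≠ 1 := fun h' => h1 (e.injective (h'.trans e.map_one.symm))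
    have h1' : (h : PSL2) ≠ 1 := fun h' => h1 (Subtype.ext h')
    set T : H → Prop := fun k => e k ∈ alike (e h)
    have hT : ∀ a : PSL2, ∀ ha : a⁻¹ * (h : PSL2) * a ∈ H, T ⟨_, ha⟩ := by
      intro a ha
      have key : ∀ n : ℕ, e h ^ n = 1 ↔ e (⟨_, ha⟩ : H) ^ n = 1 := by
        intro n
        rw [← map_pow, ← map_pow, ← e.map_one, e.injective.eq_iff, e.injective.eq_iff]
        simp only [Subtype.ext_iff, Subgroup.coe_pow, Subgroup.coe_one]
        rw [show a⁻¹ * (h : PSL2) * a = MulAut.conj a⁻¹ (h : PSL2) by simp [MulAut.conj_apply],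
          ← map_pow, EmbeddingLike.map_eq_one_iff]
      exact Finset.mem_filter.mpr ⟨Finset.mem_univ _, key 2, key 3, key 4, key 5⟩
    have hle := card_conjugators h T hT
    have hTc : Nat.card {k : H // T k} = (alike (e h)).card := by
      rw [← Nat.card_eq_finsetCard]
      exact Nat.card_congr (e.toEquiv.subtypeEquiv fun k => Iff.rfl)
    rw [hTc] at hle
    refine hle.trans ?_
    show _ ≤ w (e h)
    simp only [w, if_neg he1, zero_add]
    by_cases h2 : e h ^ 2 = 1
    · rw [if_pos h2, if_pos h2, mul_zero, add_zero]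
      refine Nat.mul_le_mul_right _ ?_
      have hh : orderOf (h : PSL2) = 2 := by
        rw [Subgroup.orderOf_coe, ← MulEquiv.orderOf_eq e]
        exact orderOf_eq_prime h2 he1
      obtain ⟨m, -, -, hm, -, ⟨e'⟩⟩ := invol_data hodd hh
      rw [Nat.card_congr e'.toEquiv, DihedralGroup.nat_card]
      omega
    · rw [if_neg h2, if_neg h2, mul_zero, zero_add]
      refine Nat.mul_le_mul_right _ ?_
      obtain ⟨X, hX⟩ := toPSL_surjective (h : PSL2)
      have h0 : tr X ≠ 0 := fun h0 => h2 (by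
        rw [← map_pow, ← e.map_one]
        refine congrArg e (Subtype.ext ?_)
        rw [Subgroup.coe_pow, ← hX, sq, sq_eq_one_of_tr_zero h0, Subgroup.coe_one])
      have ht := tr_sq_ne_four p hp (hX ▸ h.2) (hX ▸ h1')
      have := card_centralizer hodd h0 ht
      rw [hX] at this
      omega
  · rw [hcard, finsum_eq_sum_of_fintype]
    have hs : ∑ h : H, w (e h) = ∑ a : M, w a := Equiv.sum_comp e.toEquiv w
    rw [hs]
    simp only [w, Finset.sum_add_distrib, ← Finset.mul_sum, Finset.sum_ite_eq', Finset.mem_univ, if_true, h₂, h₃]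
    omega
  · have : H.index = g / N := by
      rw [← hg, ← hcard, ← Subgroup.card_mul_index H, Nat.mul_div_cancel_left _ (hcard ▸ hpos)]
    rw [this, hg]
    exact hn

/-- Large `q`: an element of order three is alone in its intersection. -/
theorem not_binary_order_three (hodd : Fintype.card F % 2 = 1) (p : ℕ) [Fact p.Prime] [CharP F p]
    (hp : ¬ p ∣ Nat.card H) (e : H ≃* M) {A B : ℕ}
    (hM : ∃ a : M, a ^ 3 = 1 ∧ a ≠ 1 ∧
      (Finset.univ.filter fun b : M => b ^ 3 = 1 ∧ b ≠ 1 ∧ b ≠ a ∧ b ≠ a⁻¹).card ≤ A ∧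
      (Finset.univ.filter fun b : M => b * a * b⁻¹ = a⁻¹).card ≤ B)
    (hA : 2 * A + 1 < Fintype.card F) (hB : 4 * B + 1 < Fintype.card F) : ¬ Binary H := by
  classical
  obtain ⟨a, ha3, ha1, hcA, hcB⟩ := hM
  obtain ⟨X, hX⟩ := toPSL_surjective ((e.symm a : H) : PSL2)
  have hord : orderOf ((e.symm a : H) : PSL2) = 3 := by
    rw [Subgroup.orderOf_coe, MulEquiv.orderOf_eq]
    exact orderOf_eq_prime ha3 ha1
  have hne : toPSL X ≠ 1 := fun h => by rw [← hX, h, orderOf_one] at hord; omega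
  have h0 : tr X ≠ 0 := fun h0 => by
    have h2 : orderOf (toPSL X) ∣ 2 := orderOf_dvd_of_pow_eq_one (by rw [sq]; exact sq_eq_one_of_tr_zero h0)
    rw [hX, hord] at h2
    exact absurd h2 (by norm_num)
  have hXH : toPSL X ∈ H := hX ▸ (e.symm a).2
  have ht := tr_sq_ne_four p hp hXH hne
  have h2 : (2 : F) ≠ 0 := Cfsg.Agent.Lib.Geometry.Dickson.two_ne_of_odd hodd
  have hC := card_centralizer hodd h0 ht
  have hinv : ((e.symm a : H) : PSL2)⁻¹ = ((e.symm a⁻¹ : H) : PSL2) := by rw [map_inv, Subgroup.coe_inv]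
  refine not_binary_semisimple h0 ht (Or.inl h2) (Nx_le_of_few h0 ht hXH ?_ ?_)
  · refine lt_of_le_of_lt (le_trans ?_ hcA) (by omega)
    rw [← Nat.card_eq_finsetCard]
    refine Nat.card_le_card_of_injective (fun k => ⟨e k.1, ?_⟩) (fun k k' hk => Subtype.ext (e.injective (congrArg Subtype.val hk)))
    obtain ⟨k, hk, hk1, hk2⟩ := k
    rw [hX, hord, Subgroup.orderOf_coe, ← MulEquiv.orderOf_eq e] at hk
    rw [hX] at hk1 hk2
    rw [hinv] at hk2
    refine Finset.mem_filter.mpr ⟨Finset.mem_univ _, hk ▸ pow_orderOf_eq_one _, fun h => ?_, fun h => ?_, fun h => ?_⟩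
    · rw [h, orderOf_one] at hk; omega
    · exact hk1 (by rw [← h, e.symm_apply_apply])
    · exact hk2 (by rw [← h, e.symm_apply_apply])
  · refine lt_of_le_of_lt (Nat.mul_le_mul_left 2 (le_trans ?_ hcB)) (by omega)
    rw [← Nat.card_eq_finsetCard]
    refine Nat.card_le_card_of_injective (fun k => ⟨e k.1, ?_⟩) (fun k k' hk => Subtype.ext (e.injective (congrArg Subtype.val hk)))
    obtain ⟨k, hk⟩ := k
    rw [hX, hinv] at hk
    refine Finset.mem_filter.mpr ⟨Finset.mem_univ _, e.symm.injective (Subtype.ext ?_)⟩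
    rw [map_mul, map_mul, e.symm_apply_apply, Subgroup.coe_mul, Subgroup.coe_mul, map_inv, e.symm_apply_apply,
      Subgroup.coe_inv]
    exact hk

end Model

theorem alt4_weights : (∑ a : alternatingGroup (Fin 4), (if a = 1 then 0 else if a ^ 2 = 1 then (alike a).card else 0)) = 9 ∧
    (∑ a : alternatingGroup (Fin 4), (if a = 1 then 0 else if a ^ 2 = 1 then 0 else (alike a).card)) = 64 := by
  decide +kernel

theorem sym4_weights : (∑ a : Equiv.Perm (Fin 4), (if a = 1 then 0 else if a ^ 2 = 1 then (alike a).card else 0)) = 81 ∧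
    (∑ a : Equiv.Perm (Fin 4), (if a = 1 then 0 else if a ^ 2 = 1 then 0 else (alike a).card)) = 100 := by
  decide +kernel

theorem alt5_weights : (∑ a : alternatingGroup (Fin 5), (if a = 1 then 0 else if a ^ 2 = 1 then (alike a).card else 0)) = 225 ∧
    (∑ a : alternatingGroup (Fin 5), (if a = 1 then 0 else if a ^ 2 = 1 then 0 else (alike a).card)) = 976 := by
  decide +kernel

theorem sym4_three : ∃ a : Equiv.Perm (Fin 4), a ^ 3 = 1 ∧ a ≠ 1 ∧
    (Finset.univ.filter fun b : Equiv.Perm (Fin 4) => b ^ 3 = 1 ∧ b ≠ 1 ∧ b ≠ a ∧ b ≠ a⁻¹).card ≤ 6 ∧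
    (Finset.univ.filter fun b : Equiv.Perm (Fin 4) => b * a * b⁻¹ = a⁻¹).card ≤ 3 := by decide +kernel

theorem alt5_three : ∃ a : alternatingGroup (Fin 5), a ^ 3 = 1 ∧ a ≠ 1 ∧
    (Finset.univ.filter fun b : alternatingGroup (Fin 5) => b ^ 3 = 1 ∧ b ≠ 1 ∧ b ≠ a ∧ b ≠ a⁻¹).card ≤ 18 ∧
    (Finset.univ.filter fun b : alternatingGroup (Fin 5) => b * a * b⁻¹ = a⁻¹).card ≤ 3 := by decide +kernel

/-- The tetrahedral, octahedral and icosahedral subgroups of order prime to `p`. -/
theorem not_binary_exceptional (hodd : Fintype.card F % 2 = 1) (h4 : 4 ≤ Fintype.card F) (h5 : Fintype.card F ≠ 5)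
    (p : ℕ) [Fact p.Prime] [CharP F p] (hp : ¬ p ∣ Nat.card H)
    (e : Nonempty (H ≃* alternatingGroup (Fin 4)) ∨ Nonempty (H ≃* Equiv.Perm (Fin 4)) ∨
      Nonempty (H ≃* alternatingGroup (Fin 5))) : ¬ Binary H := by
  obtain ⟨n, hn, hq⟩ : ∃ n : ℕ, n ≠ 0 ∧ Fintype.card F = p ^ n := by
    obtain ⟨n, -, h⟩ := FiniteField.card F p
    exact ⟨n, n.ne_zero, h⟩
  have hd : ∀ r : ℕ, r.Prime → r ∣ Fintype.card F → r ∣ Nat.card H → False := fun r hr h1 h2 => hp (by
    rw [hq] at h1
    exact ((Nat.prime_dvd_prime_iff_eq hr Fact.out).mp (hr.dvd_of_dvd_pow h1)) ▸ h2)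
  have hg := card_PSL2_odd (F := F) hodd
  have hdvd : Nat.card H ∣ Nat.card PSL2 := Subgroup.card_subgroup_dvd_card H
  rcases e with ⟨⟨e⟩⟩ | ⟨⟨e⟩⟩ | ⟨⟨e⟩⟩
  · rcases Nat.lt_or_ge (Fintype.card F) 11 with hlt | hge
    · have hc : Nat.card H = 12 := (Nat.card_congr e.toEquiv).trans card_alt4
      have h9 : Fintype.card F ≠ 9 := fun h => hd 3 Nat.prime_three (by rw [h]; norm_num) (by rw [hc]; norm_num)
      have h7 : Fintype.card F = 7 := by omega
      refine not_binary_model hodd p hp e (R := 2) card_alt4 alt4_weights.1 alt4_weights.2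
        (show Nat.card PSL2 = 168 by rw [h7] at hg; omega) ?_ (by norm_num)
      rw [h7]; norm_num
    · exact not_binary_altFour hodd hge e
  · have hc : Nat.card H = 24 := (Nat.card_congr e.toEquiv).trans card_sym4
    rcases Nat.lt_or_ge (Fintype.card F) 17 with hlt | hge
    · have h3 : ¬ 3 ∣ Fintype.card F := fun h => hd 3 Nat.prime_three h (by rw [hc]; norm_num)
      have h7 : Fintype.card F = 7 := by
        rw [hc] at hdvd
        generalize hQ : Fintype.card F = q at hg hlt h3 hodd h4 h5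
        generalize hG : Nat.card PSL2 = g at hg hdvd
        interval_cases q <;> omega
      refine not_binary_model hodd p hp e (R := 1) card_sym4 sym4_weights.1 sym4_weights.2
        (show Nat.card PSL2 = 168 by rw [h7] at hg; omega) ?_ (by norm_num)
      rw [h7]; norm_num
    · exact not_binary_order_three hodd p hp e sym4_three (by omega) (by omega)
  · have hc : Nat.card H = 60 := (Nat.card_congr e.toEquiv).trans card_alt5
    rcases Nat.lt_or_ge (Fintype.card F) 41 with hlt | hge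
    · have h3 : ¬ 3 ∣ Fintype.card F := fun h => hd 3 Nat.prime_three h (by rw [hc]; norm_num)
      have h5' : ¬ 5 ∣ Fintype.card F := fun h => hd 5 Nat.prime_five h (by rw [hc]; norm_num)
      have hcases : Fintype.card F = 11 ∨ Fintype.card F = 19 ∨ Fintype.card F = 29 ∨ Fintype.card F = 31 := by
        rw [hc] at hdvd
        generalize hQ : Fintype.card F = q at hg hlt h3 hodd h4 h5 h5'
        generalize hG : Nat.card PSL2 = g at hg hdvd
        interval_cases q <;> omega
      rcases hcases with h | h | h | h <;> rw [h] at hg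
      · refine not_binary_model hodd p hp e (R := 1) card_alt5 alt5_weights.1 alt5_weights.2
          (show Nat.card PSL2 = 660 by omega) ?_ (by norm_num)
        rw [h]; norm_num
      · refine not_binary_model hodd p hp e (R := 3) card_alt5 alt5_weights.1 alt5_weights.2
          (show Nat.card PSL2 = 3420 by omega) ?_ (by norm_num)
        rw [h]; norm_num
      · refine not_binary_model hodd p hp e (R := 8) card_alt5 alt5_weights.1 alt5_weights.2
          (show Nat.card PSL2 = 12180 by omega) ?_ (by norm_num)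
        rw [h]; norm_num
      · refine not_binary_model hodd p hp e (R := 9) card_alt5 alt5_weights.1 alt5_weights.2
          (show Nat.card PSL2 = 14880 by omega) ?_ (by norm_num)
        rw [h]; norm_num
    · exact not_binary_order_three hodd p hp e alt5_three (by omega) (by omega)

end Cfsg.Agent.Lib.BinaryPSL
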