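import Cfsg.Agent.Lib.BinaryPSL.Cases

/-!
Point stabilisers of order three in `PSL₂(2^a)`, `a` odd.
-/

set_option autoImplicit false

namespace Cfsg.Agent.Lib.BinaryPSL

open Matrix
open scoped MatrixGroups
open Cfsg.Agent.Lib.SL2Trace (tr tr_eq det_eq toPSL toPSL_surjective toPSL_eq_one sq_eq)
open Cfsg.Agent.Lib.Geometry.Dickson (sl_ext)

variable {F : Type*} [Field F]

theorem no_root_of_odd [Fintype F] {a : ℕ} (ha : Odd a) (hq : Fintype.card F = 2 ^ a) (h2 : (2 : F) = 0) (x : F) :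
    x * x + x + 1 ≠ 0 := by
  intro h
  have hx1 : x ≠ 1 := fun hx => one_ne_zero (α := F) (by rw [hx] at h; linear_combination h - h2)
  have hx3 : x ^ 3 = 1 := by linear_combination (x - 1) * h
  have hx0 : x ≠ 0 := fun hx => one_ne_zero (α := F) (by rw [hx] at hx3; linear_combination -hx3)
  haveI : Fact (Nat.Prime 3) := ⟨Nat.prime_three⟩
  have hord : orderOf (Units.mk0 x hx0) = 3 := by
    refine orderOf_eq_prime (Units.ext ?_) (fun e => hx1 (congrArg Units.val e))
    simp [hx3]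
  have hd := orderOf_dvd_natCard (Units.mk0 x hx0)
  rw [hord, Nat.card_units, Nat.card_eq_fintype_card, hq] at hd
  obtain ⟨k, rfl⟩ := ha
  have hm : 2 ^ (2 * k + 1) % 3 = 2 := by
    rw [pow_succ, pow_mul, Nat.mul_mod, Nat.pow_mod]
    norm_num
  have h1 : 1 ≤ 2 ^ (2 * k + 1) := Nat.one_le_two_pow
  generalize 2 ^ (2 * k + 1) = m at hd hm h1
  omega

/-- Two triples with the trace relations of the key configuration coincide. -/
theorem entries_eq (h2 : (2 : F) = 0) (hno : ∀ x : F, x * x + x + 1 ≠ 0) {p b c p' b' c' : F}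
    (hP : b * c = p * p + p + 1) (hB : b' * c' = p' * p' + p' + 1)
    (hPB : p + p' + b * c' + c * b' = 0) : p' = p ∧ b' = b ∧ c' = c := by
  have htr : p + p' + b * (c + c') + c * (b + b') = 0 := by linear_combination hPB + b * c * h2
  have hdet : (p + p') * (p + p') = (b + b') * (c + c') := by
    linear_combination -hP - hB - hPB + (p * p' - 1) * h2
  by_cases hd2 : c + c' = 0
  · have hc : c' = c := by linear_combination hd2 - c * h2
    have h0 : p + p' = 0 := mul_self_eq_zero.mp (by rw [hdet, hd2, mul_zero])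
    have hp : p' = p := by linear_combination h0 - p * h2
    have hc0 : c ≠ 0 := fun h => hno p (by rw [← hP, h, mul_zero])
    rw [h0, hd2, mul_zero, zero_add, zero_add] at htr
    have hb := (mul_eq_zero.mp htr).resolve_left hc0
    exact ⟨hp, by linear_combination hb - b * h2, hc⟩
  · exfalso
    set d0 := p + p'
    set d2 := c + c'
    have hr : d0 * d2 + b * d2 * d2 + c * d0 * d0 = 0 := by
      linear_combination d2 * htr + c * hdet
    refine hno (c * (d0 / d2) + p + 1) ?_
    have e : c * (d0 / d2) * (c * (d0 / d2)) + c * (d0 / d2) + p * p + p + 1 = 0 := by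
      have hr' : c * (d0 / d2) * (d0 / d2) + d0 / d2 + b = 0 := by
        field_simp
        linear_combination hr
      linear_combination c * hr' - hP
    linear_combination e + (c * (d0 / d2) * p + c * (d0 / d2) + p + 1) * h2

variable [Fintype F]

local notation "SL2" => Matrix.SpecialLinearGroup (Fin 2) F
local notation "M2" => Matrix (Fin 2) (Fin 2) F
local notation "PSL2" => Matrix.ProjectiveSpecialLinearGroup (Fin 2) F

/-- An element of order three lifts to trace one. -/
theorem tr_one_of_order_three (h2 : (2 : F) = 0) {X : SL2} (h : orderOf (toPSL X) = 3) : tr X = 1 := by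
  have hne : toPSL X ≠ 1 := fun e => by rw [e, orderOf_one] at h; omega
  have hsq : toPSL (X * X * X) = 1 := by
    have := pow_orderOf_eq_one (toPSL X)
    rw [h, pow_succ, sq] at this
    rwa [map_mul, map_mul]
  have hXXX : X * X * X = 1 := by
    rcases toPSL_eq_one.mp hsq with e | e
    · exact e
    · rw [e, neg_eq_self_of_two h2]
  have hm : (X : M2) * (X : M2) * (X : M2) = 1 := by
    rw [← Matrix.SpecialLinearGroup.coe_mul, ← Matrix.SpecialLinearGroup.coe_mul, hXXX,
      Matrix.SpecialLinearGroup.coe_one]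
  rw [sq_eq, Matrix.sub_mul, Matrix.smul_mul, sq_eq, one_mul] at hm
  by_contra ht
  have hne1 : tr X * tr X - 1 ≠ 0 := by
    intro e
    exact ht (sub_eq_zero.mp (mul_self_eq_zero.mp (show (tr X - 1) * (tr X - 1) = 0 by linear_combination e + (1 - tr X) * h2)))
  have key : ∀ i j, (tr X * tr X - 1) * (X : M2) i j = (1 + tr X) * (1 : M2) i j := fun i j => by
    have := congrFun (congrFun hm i) j
    simp only [Matrix.sub_apply, Matrix.smul_apply, smul_eq_mul] at this
    linear_combination this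
  have hd := det_eq X
  have h01 : (X : M2) 0 1 = 0 := (mul_eq_zero.mp ((key 0 1).trans (by simp))).resolve_left hne1
  have h10 : (X : M2) 1 0 = 0 := (mul_eq_zero.mp ((key 1 0).trans (by simp))).resolve_left hne1
  have h00 : (X : M2) 0 0 = (X : M2) 1 1 := mul_left_cancel₀ hne1 (by simp [key 0 0, key 1 1])
  rw [h01, zero_mul, sub_zero, ← h00] at hd
  have h1 : (X : M2) 0 0 = 1 := sub_eq_zero.mp (mul_self_eq_zero.mp
    (show ((X : M2) 0 0 - 1) * ((X : M2) 0 0 - 1) = 0 by linear_combination hd + (1 - (X : M2) 0 0) * h2))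
  refine hne (toPSL_eq_one.mpr (Or.inl (sl_ext ?_)))
  ext i j
  fin_cases i <;> fin_cases j <;> simp [h01, h10, h1, ← h00]

/-- Elements of order three whose quotient has order three. -/
theorem eq_inv_of_order_three {a : ℕ} (ha : Odd a) (hq : Fintype.card F = 2 ^ a) (h2 : (2 : F) = 0) {x y : PSL2}
    (hx : orderOf x = 3) (hy : orderOf y = 3) (hxy : orderOf (x⁻¹ * y) = 3) : y = x⁻¹ := by
  obtain ⟨X, rfl⟩ := toPSL_surjective x
  obtain ⟨Y, rfl⟩ := toPSL_surjective y
  rw [← map_inv] at hxy ⊢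
  rw [← map_mul] at hxy
  rw [← orderOf_inv, ← map_inv] at hx
  have tX := tr_one_of_order_three h2 hx
  have tY := tr_one_of_order_three h2 hy
  have tXY := tr_one_of_order_three h2 hxy
  generalize X⁻¹ = P at tX tXY ⊢
  rw [tr_eq] at tX tY tXY
  have hdP := det_eq P
  have hdY := det_eq Y
  have hP11 : (P : M2) 1 1 = (P : M2) 0 0 + 1 := by linear_combination tX - (P : M2) 0 0 * h2
  have hY11 : (Y : M2) 1 1 = (Y : M2) 0 0 + 1 := by linear_combination tY - (Y : M2) 0 0 * h2
  simp only [Matrix.SpecialLinearGroup.coe_mul, Matrix.mul_apply, Fin.sum_univ_two] at tXY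
  rw [hP11, hY11] at tXY
  rw [hP11] at hdP
  rw [hY11] at hdY
  obtain ⟨e0, e1, e2⟩ := entries_eq h2 (no_root_of_odd ha hq h2)
    (p := (P : M2) 0 0) (b := (P : M2) 0 1) (c := (P : M2) 1 0)
    (p' := (Y : M2) 0 0) (b' := (Y : M2) 0 1) (c' := (Y : M2) 1 0)
    (by linear_combination -hdP - h2) (by linear_combination -hdY - h2)
    (by linear_combination tXY - (P : M2) 0 0 * (Y : M2) 0 0 * h2)
  refine congrArg toPSL (sl_ext ?_)
  ext i j
  fin_cases i <;> fin_cases j <;> simp [hP11, hY11, e0, e1, e2]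

variable {H : Subgroup (Matrix.ProjectiveSpecialLinearGroup (Fin 2) F)}

theorem binary_three {a : ℕ} (ha : Odd a) (hq : Fintype.card F = 2 ^ a) (h2 : (2 : F) = 0) (hc : Nat.card H = 3) :
    Binary H := by
  haveI : Fact (Nat.Prime 3) := ⟨Nat.prime_three⟩
  intro n I J hn hp
  haveI : Nontrivial (Fin n) := Fin.nontrivial_iff_two_le.mpr hn
  set i0 : Fin n := ⟨0, by omega⟩
  obtain ⟨j0, hj0⟩ := exists_ne i0
  obtain ⟨t, ht, -⟩ := hp i0 j0 hj0.symm
  let S : Fin n → Subgroup PSL2 := fun i => MulAction.stabilizer PSL2 (I i)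
  have hS : ∀ i, Nat.card (S i) = 3 := fun i => by
    obtain ⟨c, hc'⟩ := QuotientGroup.mk_surjective (I i)
    have : S i = H.map (MulAut.conj c).toMonoidHom := by
      ext w
      rw [mem_map_conj, MulAction.mem_stabilizer_iff, ← hc', MulAction.Quotient.smul_coe, smul_eq_mul,
        eq_comm, QuotientGroup.eq, mul_assoc]
    rw [this, card_map_conj, hc]
  have hord : ∀ i, ∀ w ∈ S i, w ≠ 1 → orderOf w = 3 := fun i w hw h1 => by
    rw [← Subgroup.orderOf_mk w hw]
    refine ((Nat.prime_three.eq_one_or_self_of_dvd _ ((orderOf_dvd_natCard _).trans (hS i).dvd))).resolve_left ?_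
    rw [orderOf_eq_one_iff]
    exact fun e => h1 (congrArg Subtype.val e)
  have hsame : ∀ i j w, w ∈ S i → w ∈ S j → w ≠ 1 → ∀ v ∈ S i, v ∈ S j := fun i j w hi hj h1 v hv => by
    haveI : Finite (S i) := Nat.finite_of_card_ne_zero (by rw [hS i]; norm_num)
    obtain ⟨k, hk⟩ := mem_zpowers_of_prime_card (hS i) (g := (⟨w, hi⟩ : S i)) (g' := ⟨v, hv⟩)
      (fun e => h1 (congrArg Subtype.val e))
    have hk' : w ^ k = v := congrArg Subtype.val hk
    exact hk' ▸ (S j).zpow_mem hj k
  -- reduce to the first point fixed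
  have hpair : ∀ j, ∃ g ∈ S i0, t • g • I j = J j := fun j => by
    rcases eq_or_ne j i0 with rfl | hj
    · exact ⟨1, (S i0).one_mem, by rw [one_smul, ht]⟩
    obtain ⟨g, hg0, hgj⟩ := hp i0 j hj.symm
    refine ⟨t⁻¹ * g, ?_, by rw [mul_smul, smul_inv_smul, hgj]⟩
    rw [MulAction.mem_stabilizer_iff, mul_smul, hg0, ← ht, inv_smul_smul]
  choose g hg hgJ using hpair
  by_cases hall : ∀ j, ∀ v ∈ S i0, v ∈ S j
  · refine ⟨t, fun j => ?_⟩
    rw [← hgJ j, MulAction.mem_stabilizer_iff.mp (hall j _ (hg j))]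
  push Not at hall
  obtain ⟨i, v₀, hv₀, hv₀i⟩ := hall
  refine ⟨t * g i, fun j => ?_⟩
  rw [mul_smul, ← hgJ j]
  congr 1
  by_contra hne
  have hfree : ∃ v ∈ S i0, v ∉ S j := by
    by_contra hcon
    push Not at hcon
    exact hne (by rw [MulAction.mem_stabilizer_iff.mp (hcon _ (hg i)), MulAction.mem_stabilizer_iff.mp (hcon _ (hg j))])
  have hij : i ≠ j := fun e => hne (by rw [e])
  obtain ⟨w, hwi, hwj⟩ := hp i j hij
  rw [← hgJ i] at hwi
  rw [← hgJ j] at hwj
  set s := (g i)⁻¹ * (t⁻¹ * w) with hsdef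
  set u := (g j)⁻¹ * (t⁻¹ * w) with hudef
  have hs : s ∈ S i := by
    rw [MulAction.mem_stabilizer_iff, hsdef, mul_smul, mul_smul, hwi, inv_smul_smul, inv_smul_smul]
  have hu : u ∈ S j := by
    rw [MulAction.mem_stabilizer_iff, hudef, mul_smul, mul_smul, hwj, inv_smul_smul, inv_smul_smul]
  have hA : s * u⁻¹ ∈ S i0 := by
    have e : s * u⁻¹ = (g i)⁻¹ * g j := by rw [hsdef, hudef]; group
    rw [e]
    exact (S i0).mul_mem ((S i0).inv_mem (hg i)) (hg j)
  have hA1 : s * u⁻¹ ≠ 1 := fun e => hne (by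
    have : g i = g j := by
      have e' : (g i)⁻¹ * g j = 1 := by rw [← e, hsdef, hudef]; group
      exact inv_mul_eq_one.mp e'
    rw [this])
  by_cases hs1 : s = 1
  · obtain ⟨v, hv, hvj⟩ := hfree
    exact hvj (hsame i0 j _ hA (by rw [hs1, one_mul]; exact (S j).inv_mem hu) hA1 v hv)
  by_cases hu1 : u = 1
  · exact hv₀i (hsame i0 i _ hA (by rw [hu1, inv_one, mul_one]; exact hs) hA1 v₀ hv₀)
  have key := eq_inv_of_order_three ha hq h2 (x := s⁻¹) (y := u⁻¹)
    (hord i _ ((S i).inv_mem hs) (inv_ne_one.mpr hs1)) (hord j _ ((S j).inv_mem hu) (inv_ne_one.mpr hu1))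
    (by rw [inv_inv]; exact hord i0 _ hA hA1)
  rw [inv_inv] at key
  exact hv₀i (hsame i0 i _ hA (by rw [key]; exact (S i).mul_mem hs hs) hA1 v₀ hv₀)

end Cfsg.Agent.Lib.BinaryPSL
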